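import Mathlib
import Cfsg.Agent.SPOR.LE.N36

/-!
`C(d) / Q d ≅ S₃ × S₃ × S₃` acting on `Q d / ⟨d⟩` of dimension 8.
-/

set_option autoImplicit false

namespace CL.D42

open CL.LE CL.LX CL.MSS QuadraticMap S36 Module

abbrev S33 := Fin 3 → P3

/-- the 3-cycle in the factor `i` -/
def sg (i : Fin 3) : S33 := Pi.mulSingle i om

theorem sg_same (i : Fin 3) : sg i i = om := Pi.mulSingle_eq_same _ _
theorem sg_ne {i j : Fin 3} (h : j ≠ i) : sg i j = 1 := Pi.mulSingle_eq_of_ne h _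

theorem s33_ext {a b : S33} (i : Fin 3) (h1 : a i = b i) (h2 : ∀ j, j ≠ i → a j = b j) : a = b :=
  funext fun j => if h : j = i then h ▸ h1 else h2 j h

theorem sg_comm {g : S33} {i : Fin 3} (h : g i * om = om * g i) : g * sg i = sg i * g :=
  s33_ext i (by simp only [Pi.mul_apply, sg_same, h]) fun j hj => by simp [sg_ne hj]

theorem sg_inv {g : S33} {i : Fin 3} (h : g i * om = om * om * g i) : g * sg i = sg i * sg i * g :=
  s33_ext i (by simp only [Pi.mul_apply, sg_same, h]) fun j hj => by simp [sg_ne hj]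

theorem p3_inv : ∀ s : P3, s * s = 1 → s ≠ 1 → s * om = om * om * s := by decide
theorem p3_two : ∀ a b : P3, a * a = 1 → b * b = 1 → a * b = b * a → a = 1 ∨ b = 1 ∨ a = b := by decide
theorem p3_cases : ∀ a b : P3, a * a = 1 → a ≠ 1 → b * b = 1 → b ≠ 1 →
    a = b ∨ a = om * b ∨ a = om * om * b := by decide
theorem p3_conj : ∀ a b : P3, a * a = 1 → a ≠ 1 → b * b = 1 → b ≠ 1 → ∃ k, a * k = k * b := by decide
theorem p3_braid : ∀ a b : P3, a * a = 1 → a ≠ 1 → b * b = 1 → b ≠ 1 → a * b * a = b * a * b := by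
  decide
theorem p3_gen : ∀ a b : P3, a * a = 1 → a ≠ 1 → b * b = 1 → b ≠ 1 → a ≠ b → ∀ g, g = 1 ∨ g = a ∨
    g = b ∨ g = a * b ∨ g = b * a ∨ g = a * b * a := by decide

/-- a transposition in the factor `i` -/
structure Tp (g : S33) (i : Fin 3) : Prop where
  sq : g i * g i = 1
  ne : g i ≠ 1
  off : ∀ j, j ≠ i → g j = 1

namespace Tp

variable {g g' : S33} {i j : Fin 3}

theorem mul_self (h : Tp g i) : g * g = 1 := s33_ext i h.sq fun j hj => by simp [h.off j hj]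

theorem ne_one (h : Tp g i) : g ≠ 1 := fun e => h.ne (congrFun e i)

theorem inv (h : Tp g i) : g * sg i = sg i * sg i * g := sg_inv (p3_inv _ h.sq h.ne)

theorem comm (h : Tp g i) (hj : j ≠ i) : g * sg j = sg j * g := sg_comm (by simp [h.off j hj])

theorem cases (h : Tp g i) (h' : Tp g' i) : g = g' ∨ g = sg i * g' ∨ g = sg i * sg i * g' :=
  (p3_cases _ _ h.sq h.ne h'.sq h'.ne).imp
    (fun e => s33_ext i e fun j hj => by rw [h.off j hj, h'.off j hj])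
    (Or.imp (fun e => s33_ext i (by simpa [sg_same] using e) fun j hj => by
        simp [h.off j hj, h'.off j hj, sg_ne hj])
      fun e => s33_ext i (by simpa [sg_same] using e) fun j hj => by
        simp [h.off j hj, h'.off j hj, sg_ne hj])

theorem commute (h : Tp g i) (h' : Tp g' j) (hij : i ≠ j) : g * g' = g' * g :=
  s33_ext i (by simp [h'.off i hij]) fun k hk => by simp [h.off k hk]

theorem braid (h : Tp g i) (h' : Tp g' i) : g * g' * g = g' * g * g' :=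
  s33_ext i (p3_braid _ _ h.sq h.ne h'.sq h'.ne) fun j hj => by simp [h.off j hj, h'.off j hj]

theorem conj (h : Tp g i) (c : S33) : Tp (c * g * c⁻¹) i :=
  ⟨by simp only [Pi.mul_apply, Pi.inv_apply]; rw [conj_mul, h.sq]; simp,
    by simpa [mul_inv_eq_one] using h.ne, fun j hj => by simp [h.off j hj]⟩

end Tp

theorem exists_conj_tp {s s' : Fin 3 → S33} (h : ∀ i, Tp (s i) i) (h' : ∀ i, Tp (s' i) i) :
    ∃ c : S33, ∀ i, s' i * c = c * s i := by
  choose k hk using fun i => p3_conj _ _ (h' i).sq (h' i).ne (h i).sq (h i).ne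
  exact ⟨k, fun i => s33_ext i (hk i) fun j hj => by simp [(h i).off j hj, (h' i).off j hj]⟩

/-- two different transpositions in each factor generate -/
theorem eq_top_of_tp {H : Subgroup S33} (h : ∀ i, ∃ a ∈ H, ∃ b ∈ H, Tp a i ∧ Tp b i ∧ a ≠ b) : H = ⊤ := by
  have k : ∀ i g, Pi.mulSingle i g ∈ H := fun i g => by
    obtain ⟨a, ha, b, hb, a1, b1, ab⟩ := h i
    have e : ∀ {c : S33}, c ∈ H → (∀ j, j ≠ i → c j = 1) → g = c i → Pi.mulSingle i g ∈ H :=
      fun {c} c1 c2 c3 => by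
        rwa [s33_ext (a := Pi.mulSingle i g) (b := c) i (by simp [c3]) fun j hj => by simp [hj, c2 j hj]]
    rcases p3_gen _ _ a1.sq a1.ne b1.sq b1.ne (fun e => ab (s33_ext i e fun j hj => by
      rw [a1.off j hj, b1.off j hj])) g with e1 | e1 | e1 | e1 | e1 | e1
    exacts [e (one_mem _) (fun _ _ => rfl) e1, e ha a1.off e1, e hb b1.off e1,
      e (mul_mem ha hb) (fun j hj => by simp [a1.off j hj, b1.off j hj]) e1,
      e (mul_mem hb ha) (fun j hj => by simp [a1.off j hj, b1.off j hj]) e1,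
      e (mul_mem (mul_mem ha hb) ha) (fun j hj => by simp [a1.off j hj, b1.off j hj]) e1]
  refine eq_top_iff.2 fun g _ => ?_
  have : g = Pi.mulSingle 0 (g 0) * Pi.mulSingle 1 (g 1) * Pi.mulSingle 2 (g 2) := by
    funext j; fin_cases j <;> simp
  rw [this]
  exact mul_mem (mul_mem (k _ _) (k _ _)) (k _ _)

/-- an element commuting with the three transpositions -/
theorem mem_of_tp {H : Subgroup S33} {s : Fin 3 → S33} (h : ∀ i, Tp (s i) i) (hs : ∀ i, s i ∈ H) {g : S33}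
    (g1 : g * g = 1) (g2 : ∀ i, g * s i = s i * g) : g ∈ H := by
  have k : ∀ i, Pi.mulSingle i (g i) ∈ H := fun i => by
    rcases p3_two _ _ (congrFun g1 i) (h i).sq (congrFun (g2 i) i) with e | e | e
    · rw [e, Pi.mulSingle_one]; exact one_mem _
    · exact absurd e (h i).ne
    · rw [s33_ext (a := Pi.mulSingle i (g i)) (b := s i) i (by simp [e]) fun j hj => by
        simp [hj, (h i).off j hj]]
      exact hs i
  have : g = Pi.mulSingle 0 (g 0) * Pi.mulSingle 1 (g 1) * Pi.mulSingle 2 (g 2) := by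
    funext j; fin_cases j <;> simp
  rw [this]
  exact mul_mem (mul_mem (k _) (k _)) (k _)

variable {V : Type*} [AddCommGroup V] [Module (ZMod 2) V]

theorem half [Finite V] {W : Submodule (ZMod 2) V} {r s : V ≃ₗ[ZMod 2] V} (hW : ∀ v ∈ W, r v ∈ W)
    (hr : ∀ v, r (r v) = v + r v) (hs : ∀ v, s (r v) = r (r (s v))) :
    2 * finrank (ZMod 2) ↥(W ⊓ Cg s) ≤ finrank (ZMod 2) W := by
  have h1 := Submodule.finrank_sup_add_finrank_inf_eq (W ⊓ Cg s) ((W ⊓ Cg s).map (r : V →ₗ[ZMod 2] V))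
  have h2 : (W ⊓ Cg s) ⊓ (W ⊓ Cg s).map (r : V →ₗ[ZMod 2] V) = ⊥ := by
    refine (Submodule.eq_bot_iff _).2 ?_
    rintro _ ⟨h3, u, hu, rfl⟩
    have e := mem_Cg.1 h3.2
    change s (r u) = r u at e
    rw [hs, mem_Cg.1 hu.2, hr, add_eq_right] at e
    rw [e, map_zero]
  have h3 : (W ⊓ Cg s) ⊔ (W ⊓ Cg s).map (r : V →ₗ[ZMod 2] V) ≤ W :=
    sup_le inf_le_left (by rintro _ ⟨u, hu, rfl⟩; exact hW u hu.1)
  have h4 := Submodule.finrank_mono h3
  rw [h2, finrank_bot, LinearEquiv.finrank_map_eq] at h1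
  omega

variable {G : Type*} [Group G]

/-- a frame at `d` -/
structure TF (D : Set G) (Q : G → Subgroup G) (d : G) (κ : G → V) (ρ : Cz d →* (V ≃ₗ[ZMod 2] V))
    (q : QuadraticForm (ZMod 2) V) (φ : Cz d →* S33) : Prop extends LF D Q 4 where
  fr : Fr d (Q d) κ ρ q
  ker : ∀ c, φ c = 1 ↔ (c : G) ∈ Q d
  surj : Function.Surjective φ
  ex : ∃ x, NW D Q d x

namespace TF

variable {D : Set G} {Q : G → Subgroup G} {d x p y : G} {κ : G → V} {ρ : Cz d →* (V ≃ₗ[ZMod 2] V)}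
  {q : QuadraticForm (ZMod 2) V} {φ : Cz d →* S33} (h : TF D Q d κ ρ q φ) {i j : Fin 3}
include h

theorem dD : d ∈ D := h.ex.choose_spec.zD

theorem eqv {c c' : Cz d} : ρ c = ρ c' ↔ φ c = φ c' := h.fr.rho_eq_iff' h.ker

theorem app {a b : Cz d} (e : φ a = φ b) (v : V) : ρ a v = ρ b v := by rw [h.eqv.2 e]

theorem app1 {a b c : Cz d} (e : φ a = φ b * φ c) (v : V) : ρ a v = ρ b (ρ c v) := by
  rw [h.app (e.trans (map_mul φ b c).symm), map_mul]; rfl

theorem app2 {a b c e : Cz d} (e1 : φ a * φ b = φ c * φ e) (v : V) : ρ a (ρ b v) = ρ c (ρ e v) := by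
  rw [← h.app1 (a := a * b) (map_mul φ a b), h.app1 ((map_mul φ a b).trans e1)]

theorem app3 {a b c c' e : Cz d} (e1 : φ a * φ b = φ c * φ c' * φ e) (v : V) :
    ρ a (ρ b v) = ρ c (ρ c' (ρ e v)) := by
  rw [h.app2 (c := c * c') (e := e) (by rwa [map_mul]), map_mul]; rfl

theorem app_sq {a : Cz d} (e : φ a * φ a = 1) (v : V) : ρ a (ρ a v) = v := by
  rw [h.app2 (c := 1) (e := 1) (by simpa using e), map_one]; rfl

/-- a lift of the 3-cycle -/
noncomputable def r (i : Fin 3) : Cz d := (h.surj (sg i)).choose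

theorem φr (i : Fin 3) : φ (h.r i) = sg i := (h.surj (sg i)).choose_spec

theorem L_sq (n : NW D Q d x) {c : Cz d} (hc : (c : G) ∈ Q x) : φ c * φ c = 1 := by
  rw [← map_mul, h.ker]; exact h.nw_L_sq n hc

theorem L_comm (n : NW D Q d x) {c c' : Cz d} (hc : (c : G) ∈ Q x) (hc' : (c' : G) ∈ Q x) :
    φ c * φ c' = φ c' * φ c := by
  have e := h.L_sq n (c := c * c') (mul_mem hc hc')
  rw [map_mul] at e
  rw [← inv_eq_of_mul_eq_one_right e, mul_inv_rev, inv_eq_of_mul_eq_one_right (h.L_sq n hc),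
    inv_eq_of_mul_eq_one_right (h.L_sq n hc')]

theorem L_fix (n : NW D Q d x) {c : Cz d} (hc : (c : G) ∈ Q x) : ρ c (κ x) = κ x :=
  (h.nl n h.fr).fix _ ⟨c, hc, rfl⟩

variable [Finite G]

theorem dim : finrank (ZMod 2) V = 8 := h.fr.finrank_eq (h.card h.dD)

theorem nr (n : NW D Q d x) (i : Fin 3) :
    NR q (κ x) (h.fr.img (Q x)) (Lam ρ (Q x)) (ρ (h.r i)) where
  toNL := h.nl n h.fr
  dim := h.dim
  r_iso := h.fr.q_rho _
  r_cube := fun v => by
    rw [← h.app3 (a := 1) (b := 1) (by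
      rw [h.φr, map_one]; exact s33_ext i (by simp [sg_same, om_cube]) fun j hj => by simp [sg_ne hj]),
      map_one]
    rfl
  r_ne := fun e => om_ne (by
    have := congrFun ((h.φr i).symm.trans (h.eqv.1 (e.trans (map_one ρ).symm))) i
    rwa [sg_same, map_one] at this)
  r_comm := by
    rintro _ ⟨c, -, rfl⟩
    simp only [← map_mul, h.eqv]
    simp only [map_mul, h.φr]
    exact (om_comm _).imp sg_comm sg_inv
  r_E := fun e => (h.nw_equi n h.fr n.mem e).1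

theorem rr (i : Fin 3) (v : V) : ρ (h.r i) (ρ (h.r i) v) = v + ρ (h.r i) v :=
  have := h.fr.finite
  (h.nr h.ex.choose_spec i).rr v

theorem fpf {v : V} (e : ρ (h.r i) v = v) : v = 0 := by
  have := h.rr i v
  rwa [e, e, v2_add_self] at this

theorem r_mem (n : NW D Q d x) (i : Fin 3) : ρ (h.r i) (κ x) ∈ h.fr.img (Q x) :=
  have := h.fr.finite
  (h.nr n i).Pt_le_E (mem_Pt.2 (by simp))

theorem exists_tp (n : NW D Q d x) (i : Fin 3) : ∃ s : Cz d, (s : G) ∈ Q x ∧ Tp (φ s) i := by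
  have := h.fr.finite
  obtain ⟨_, ⟨a, a1, rfl⟩, _, ⟨b, b1, rfl⟩, a2, b2, a3, b3, ab⟩ := (h.nr n (i + 1)).exists_two
  have k1 : ∀ c : Cz d, (c : G) ∈ Q x → ρ c * ρ (h.r (i + 1)) = ρ (h.r (i + 1)) * ρ c → φ c (i + 1) = 1 :=
    fun c c1 c2 => by
      rw [← map_mul, ← map_mul, h.eqv, map_mul, map_mul, h.φr] at c2
      exact eq_one_of_comm _ (congrFun (h.L_sq n c1) _) (by simpa [sg_same] using congrFun c2 (i + 1))
  have k2 : ∀ c : Cz d, (c : G) ∈ Q x → ρ c ≠ 1 → φ c (i + 1) = 1 → φ c (i + 2) = 1 →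
      ∃ s : Cz d, (s : G) ∈ Q x ∧ Tp (φ s) i := fun c c1 c2 c3 c4 => by
    have o : ∀ j, j ≠ i → φ c j = 1 := fun j hj => by
      rcases (by decide : ∀ i j : Fin 3, j ≠ i → j = i + 1 ∨ j = i + 2) i j hj with rfl | rfl
      exacts [c3, c4]
    exact ⟨c, c1, congrFun (h.L_sq n c1) i, fun e => c2 (by
      rw [← map_one ρ, h.eqv, map_one]; exact s33_ext i e o), o⟩
  have a4 := k1 a a1 a2
  have b4 := k1 b b1 b2
  rcases p3_two _ _ (congrFun (h.L_sq n a1) (i + 2)) (congrFun (h.L_sq n b1) (i + 2))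
    (congrFun (h.L_comm n a1 b1) (i + 2)) with e | e | e
  · exact k2 a a1 a3 a4 e
  · exact k2 b b1 b3 b4 e
  · refine k2 (a * b) (mul_mem a1 b1) (fun e' => ab ?_) (by simp [a4, b4]) ?_
    · rw [map_mul, mul_eq_one_iff_eq_inv] at e'
      rw [e', (h.nr n 0).inv_eq ⟨b, b1, rfl⟩]
    · rw [map_mul, Pi.mul_apply, e]; exact congrFun (h.L_sq n b1) (i + 2)

omit [Finite G] in
theorem tp_r {s : Cz d} (t : Tp (φ s) i) (v : V) :
    ρ s (ρ (h.r i) v) = ρ (h.r i) (ρ (h.r i) (ρ s v)) := h.app3 (by rw [h.φr]; exact t.inv) v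

omit [Finite G] in
theorem tp_r' {s : Cz d} (t : Tp (φ s) i) (hj : j ≠ i) (v : V) :
    ρ s (ρ (h.r j) v) = ρ (h.r j) (ρ s v) := h.app2 (by rw [h.φr]; exact t.comm hj) v

omit [Finite G] in
theorem tp_cases {s s' : Cz d} (t : Tp (φ s) i) (t' : Tp (φ s') i) {v : V} (e : ρ s' v = v) :
    φ s = φ s' ∨ ρ s v = ρ (h.r i) v ∨ ρ s v = ρ (h.r i) (ρ (h.r i) v) := by
  refine (t.cases t').imp_right (Or.imp (fun k => ?_) fun k => ?_)
  · rw [h.app1 (b := h.r i) (c := s') (k.trans (by rw [h.φr])), e]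
  · rw [h.app1 (b := h.r i * h.r i) (c := s') (k.trans (by rw [map_mul, h.φr])), e, map_mul]; rfl

theorem tp_uniq {s s' : Cz d} (t : Tp (φ s) i) (t' : Tp (φ s') i) {v : V} (h0 : v ≠ 0) (e : ρ s v = v)
    (e' : ρ s' v = v) : φ s = φ s' := by
  rcases h.tp_cases t t' e' with k | k | k
  · exact k
  · exact absurd (h.fpf (k.symm.trans e)) h0
  · rw [e, h.rr, left_eq_add] at k
    exact absurd (by simpa using k) h0

theorem three {s : Fin 3 → Cz d} (t : ∀ i, Tp (φ (s i)) i) {v w : V} (v0 : v ≠ 0) (w0 : w ≠ 0)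
    (hv : ∀ i, ρ (s i) v = v) (hw : ∀ i, ρ (s i) w = w) : v = w := by
  have := h.fr.finite
  have inv : ∀ {i j}, j ≠ i → ∀ u ∈ Cg (ρ (s i)), ρ (h.r j) u ∈ Cg (ρ (s i)) := fun hj u hu =>
    mem_Cg.2 (by rw [h.tp_r' (t _) hj, mem_Cg.1 hu])
  have h0 := half (W := ⊤) (fun _ _ => trivial) (h.rr 0) (h.tp_r (t 0))
  have h1 := half (W := ⊤ ⊓ Cg (ρ (s 0))) (fun u hu => ⟨trivial, inv (by decide) u hu.2⟩) (h.rr 1)
    (h.tp_r (t 1))
  have h2 := half (W := ⊤ ⊓ Cg (ρ (s 0)) ⊓ Cg (ρ (s 1)))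
    (fun u hu => ⟨⟨trivial, inv (by decide) u hu.1.2⟩, inv (by decide) u hu.2⟩) (h.rr 2) (h.tp_r (t 2))
  rw [finrank_top, h.dim] at h0
  have k : ∀ u, (∀ i, ρ (s i) u = u) → u ∈ ⊤ ⊓ Cg (ρ (s 0)) ⊓ Cg (ρ (s 1)) ⊓ Cg (ρ (s 2)) := fun u hu =>
    ⟨⟨⟨trivial, mem_Cg.2 (hu 0)⟩, mem_Cg.2 (hu 1)⟩, mem_Cg.2 (hu 2)⟩
  exact v2_add_eq_zero.1 ((Submodule.mem_bot _).1 (idx2 bot_le (by rw [finrank_bot]; omega) (k v hv) (k w hw)
    (by simpa using v0) (by simpa using w0)))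

theorem exists_inv {g : S33} (g1 : g * g = 1) (g2 : g ≠ 1) : ∃ i, g i ≠ 1 ∧ g * sg i = sg i * sg i * g := by
  obtain ⟨i, hi⟩ := Function.ne_iff.1 g2
  exact ⟨i, hi, sg_inv (p3_inv _ (congrFun g1 i) hi)⟩

theorem free {g : Cz d} (g1 : φ g * φ g = 1) (g2 : φ g ≠ 1) :
    finrank (ZMod 2) (Cg (ρ g)) = 4 ∧ Yg (ρ g) = Cg (ρ g) := by
  have := h.fr.finite
  obtain ⟨i, -, e⟩ := h.exists_inv g1 g2
  have h0 := half (W := ⊤) (s := ρ g) (fun _ _ => trivial) (h.rr i) (h.app3 (by rw [h.φr]; exact e))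
  rw [finrank_top, h.dim, top_inf_eq] at h0
  have h1 := finrank_Yg_add (ρ g)
  have h2 := Yg_le_Cg (g := ρ g) (LinearEquiv.ext (h.app_sq g1))
  have h3 := Submodule.finrank_mono h2
  rw [h.dim] at h1
  exact ⟨by omega, Submodule.eq_of_le_of_finrank_le h2 (by omega)⟩

theorem four {a b : Cz d} (a1 : φ a * φ a = 1) (a2 : φ a ≠ 1) (b1 : φ b * φ b = 1) (b2 : φ b ≠ 1)
    (ab : φ a ≠ φ b) (c : φ a * φ b = φ b * φ a) :
    finrank (ZMod 2) ↥(Cg (ρ a) ⊓ Cg (ρ b)) ≤ 2 := by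
  have := h.fr.finite
  obtain ⟨i, hi, e⟩ := h.exists_inv a1 a2
  have k : ∀ b : Cz d, φ b * φ b = 1 → φ b ≠ 1 → φ b i = 1 →
      finrank (ZMod 2) ↥(Cg (ρ b) ⊓ Cg (ρ a)) ≤ 2 := fun b b1 b2 b3 => by
    have h0 := half (W := Cg (ρ b)) (s := ρ a) (fun u hu => mem_Cg.2 (by
      rw [h.app2 (c := h.r i) (e := b) (by rw [h.φr]; exact sg_comm (by simp [b3])), mem_Cg.1 hu]))
      (h.rr i) (h.app3 (by rw [h.φr]; exact e))
    rw [(h.free b1 b2).1] at h0
    omega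
  rcases p3_two _ _ (congrFun a1 i) (congrFun b1 i) (congrFun c i) with e1 | e1 | e1
  · exact absurd e1 hi
  · rw [inf_comm]; exact k b b1 b2 e1
  · refine le_trans (Submodule.finrank_mono fun u hu => ?_) (k (a * b) ?_ (fun e' => ab ?_) ?_)
    · exact ⟨mem_Cg.2 (by rw [h.app1 (map_mul φ a b), mem_Cg.1 hu.2, mem_Cg.1 hu.1]), hu.1⟩
    · rw [map_mul, mul_assoc, ← mul_assoc (φ b), ← c, mul_assoc, b1, mul_one, a1]
    · rw [map_mul, mul_eq_one_iff_eq_inv] at e'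
      rw [e', inv_eq_of_mul_eq_one_right b1]
    · rw [map_mul, Pi.mul_apply, e1]; exact congrFun b1 i

end TF

end CL.D42
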