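import Mathlib
import Cfsg.Agent.SPOR.D42.Mod

/-!
Collinearity in the class of the central involution when `C(d) / Q d ≅ S₃ × S₃ × S₃`.
-/

set_option autoImplicit false

namespace CL.D42

open CL.LE CL.LX CL.MSS QuadraticMap S36 Module

variable {V : Type*} [AddCommGroup V] [Module (ZMod 2) V] {G : Type*} [Group G]

/-- the stabilizer of a vector -/
def stab {d : G} (ρ : Cz d →* (V ≃ₗ[ZMod 2] V)) (v : V) : Subgroup (Cz d) :=
  (MulAction.stabilizer (V ≃ₗ[ZMod 2] V) v).comap ρ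

theorem mem_stab {d : G} {ρ : Cz d →* (V ≃ₗ[ZMod 2] V)} {v : V} {c : Cz d} : c ∈ stab ρ v ↔ ρ c v = v :=
  Iff.rfl

theorem nw_cz {D : Set G} {Q : G → Subgroup G} {n : ℕ} {d x g : G} (h : LF D Q n) (p : NW D Q d x)
    (hg : g * d = d * g) : NW D Q d (g * x * g⁻¹) := by
  have := h.nw_conj p g
  rwa [hg, mul_inv_cancel_right] at this

namespace TF

variable {D : Set G} {Q : G → Subgroup G} {d x p y : G} {κ : G → V} {ρ : Cz d →* (V ≃ₗ[ZMod 2] V)}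
  {q : QuadraticForm (ZMod 2) V} {φ : Cz d →* S33} (h : TF D Q d κ ρ q φ) {i j : Fin 3}
include h

theorem nw_of_κ (n : NW D Q d p) (hy : y ∈ Q d) {c : Cz d} (e : κ y = ρ c (κ p)) : NW D Q d y := by
  have n' := nw_cz h.toLF n (Cz_comm c)
  rw [← h.fr.κ_conj c p n.mem, h.fr.κ_eq_iff hy n'.mem] at e
  rcases e with rfl | rfl
  exacts [n', h.nw_third n']

theorem κ_ne (n : NW D Q d p) : κ p ≠ 0 := h.nw_κ_ne n h.fr

theorem E_conj (n : NW D Q d x) {l : Cz d} (hl : (l : G) ∈ Q x) {e : G} (e1 : e ∈ Q d) (e2 : e ∈ Q x) :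
    ρ l (κ e) = κ e ∨ ρ l (κ e) = κ e + κ x := by
  rw [← h.fr.κ_conj l e e1, ← h.fr.κ_mul e e1 x n.mem]
  exact ((h.lx n.xD).toES.conj_cases e2 hl).imp (congrArg κ) (congrArg κ)

theorem L_move (n : NW D Q d x) {l : Cz d} (hl : (l : G) ∈ Q x) (l1 : φ l ≠ 1) (hp : p ∈ Q d)
    (c : p * x ≠ x * p) : ρ l (κ p) ≠ κ p := fun e => l1 (by
  rw [← map_one φ, ← h.eqv, map_one]
  exact (h.nl n h.fr).inj _ ⟨l, hl, rfl⟩ _ (fun k => c ((h.fr.comm_iff x n.mem p hp).2 k).symm)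
    (by rw [e, v2_add_self]; exact zero_mem _))

theorem inverts {t : Cz d} (ht : (t : G) * t = 1) (hy : y ∈ Q d) (e : κ y ∈ Yg (ρ t)) :
    t * y * (t : G)⁻¹ = y⁻¹ := by
  obtain ⟨u, e⟩ := mem_Yg.1 e
  obtain ⟨a, ha, rfl⟩ := h.fr.κ_surj u
  have k : t * (t * a * (t : G)⁻¹ * a⁻¹) * (t : G)⁻¹ = (t * a * (t : G)⁻¹ * a⁻¹)⁻¹ := by
    rw [← mul_assoc, ← mul_assoc, ← mul_assoc, ht, inv_eq_of_mul_eq_one_right ht]
    simp only [mul_inv_rev, inv_inv, one_mul, inv_eq_of_mul_eq_one_right ht, mul_assoc]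
  rw [← h.fr.κ_commutator t ha, eq_comm,
    h.fr.κ_eq_iff hy (mul_mem (h.fr.norm t (Cz_comm t) a ha) (inv_mem ha))] at e
  rcases e with rfl | rfl
  · exact k
  · rw [← conj_mul, k, Cz_comm t, mul_inv_cancel_right, mul_inv_rev _ d, h.fr.toES.z_inv,
      h.fr.z_comm _ (inv_mem (mul_mem (h.fr.norm t (Cz_comm t) a ha) (inv_mem ha)))]

variable [Finite G]

theorem exists_fixed (S : Set (Cz d)) (h1 : ∀ a ∈ S, φ a * φ a = 1)
    (h2 : ∀ a ∈ S, ∀ b ∈ S, φ a * φ b = φ b * φ a) : ∃ x, NW D Q d x ∧ ∀ a ∈ S, ρ a (κ x) = κ x := by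
  have k : ∀ i, ∃ t : S33, Tp t i ∧ ∀ a ∈ S, φ a * t = t * φ a := fun i => by
    have k : ∀ t : P3, t * t = 1 → t ≠ 1 → (∀ a ∈ S, φ a i * t = t * φ a i) →
        ∃ t : S33, Tp t i ∧ ∀ a ∈ S, φ a * t = t * φ a := fun t t1 t2 t3 =>
      ⟨Pi.mulSingle i t, ⟨by simpa using t1, by simpa using t2, fun j hj => by simp [hj]⟩, fun a ha =>
        s33_ext i (by simpa using t3 a ha) fun j hj => by simp [hj]⟩
    by_cases e : ∃ b ∈ S, φ b i ≠ 1
    · obtain ⟨b, hb, e⟩ := e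
      exact k _ (congrFun (h1 b hb) i) e fun a ha => congrFun (h2 a ha b hb) i
    · push Not at e
      exact k (Equiv.swap 0 1) (by decide) (by decide) fun a ha => by simp [e a ha]
  choose t t1 t2 using k
  obtain ⟨x, n⟩ := h.ex
  choose s s1 s2 using h.exists_tp n
  obtain ⟨c, hc⟩ := exists_conj_tp s2 t1
  obtain ⟨c, rfl⟩ := h.surj c
  refine ⟨_, nw_cz h.toLF n (Cz_comm c), fun a ha => ?_⟩
  rw [h.fr.κ_conj c x n.mem]
  obtain ⟨b, hb, e⟩ := mem_of_tp (H := (stab ρ (ρ c (κ x))).map φ) t1 (fun i => by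
    obtain ⟨b, hb⟩ := h.surj (t i)
    exact ⟨b, mem_stab.2 (by rw [h.app2 (hb ▸ hc i), h.L_fix n (s1 i)]), hb⟩) (h1 a ha) fun i => t2 i a ha
  rw [← h.app e]; exact hb

theorem trans_κ (n : NW D Q d x) (n' : NW D Q d y) : ∃ c : Cz d, ρ c (κ x) = κ y := by
  choose s s1 s2 using h.exists_tp n
  choose s' s1' s2' using h.exists_tp n'
  obtain ⟨c, hc⟩ := exists_conj_tp s2 s2'
  obtain ⟨c, rfl⟩ := h.surj c
  exact ⟨c, h.three s2' (by simpa using h.κ_ne n) (h.κ_ne n')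
    (fun i => by rw [h.app2 (hc i), h.L_fix n (s1 i)]) fun i => h.L_fix n' (s1' i)⟩

theorem trans_nw (n : NW D Q d x) (n' : NW D Q d y) : ∃ g, g * d = d * g ∧ g * x * g⁻¹ = y := by
  obtain ⟨c, hc⟩ := h.trans_κ n n'
  obtain ⟨u, hu, e⟩ := h.nw_lift n h.fr n'.mem hc
  exact ⟨_, by rw [mul_assoc, h.fr.z_comm u hu, ← mul_assoc, Cz_comm c, mul_assoc], e⟩

theorem exists_opp (n : NW D Q d x) : ∃ p, NW D Q d p ∧ p * x ≠ x * p := by
  choose s s1 s2 using h.exists_tp n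
  obtain ⟨w, hw⟩ := (h.nl n h.fr).exists_v
  have adj : ∀ i u v, polar q (ρ (s i) u + u) v = polar q u (ρ (s i) v + v) := fun i u v => by
    rw [polar_add_left, polar_add_right, ← h.fr.polar_rho (s i) (ρ (s i) u), h.app_sq (s2 i).mul_self]
  have cm : ∀ {i j}, i ≠ j → ∀ v, ρ (s i) (ρ (s j) v) = ρ (s j) (ρ (s i) v) := fun hij =>
    h.app2 ((s2 _).commute (s2 _) hij)
  have k : ∀ i u, ρ (s i) u = u → ρ (s i) (ρ (h.r i) u) + ρ (h.r i) u = u := fun i u e => by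
    rw [h.tp_r (s2 i), e, h.rr, v2_add_add_cancel']
  have f := fun i => h.L_fix n (s1 i)
  have e0 := k 0 (κ x) (f 0)
  have e1 := k 1 (ρ (h.r 0) (κ x)) (by rw [h.tp_r' (s2 1) (by decide), f])
  have e2 := k 2 (ρ (h.r 1) (ρ (h.r 0) (κ x))) (by
    rw [h.tp_r' (s2 2) (by decide), h.tp_r' (s2 2) (by decide), f])
  rw [← e0, adj, ← e1, adj, ← e2, adj] at hw
  generalize hu : ρ (s 2) (ρ (s 1) (ρ (s 0) w + w) + (ρ (s 0) w + w)) +
    (ρ (s 1) (ρ (s 0) w + w) + (ρ (s 0) w + w)) = u at hw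
  have e3 : u = κ x := h.three s2 (fun e => hw (by rw [e, polar_zero_right])) (h.κ_ne n) (fun i => by
    subst hu
    fin_cases i
    · simp only [Fin.zero_eta, map_add, cm (show (0 : Fin 3) ≠ 1 by decide), cm (show (0 : Fin 3) ≠ 2 by decide),
        h.app_sq (s2 0).mul_self]
      abel
    · simp only [Fin.mk_one, map_add, cm (show (1 : Fin 3) ≠ 2 by decide), h.app_sq (s2 1).mul_self]
      abel
    · simp only [Fin.reduceFinMk, map_add, h.app_sq (s2 2).mul_self]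
      abel) f
  have n' := nw_cz h.toLF n (Cz_comm (h.r 2 * (h.r 1 * h.r 0)))
  refine ⟨_, n', fun e => hw ?_⟩
  rw [h.fr.comm_iff _ n'.mem x n.mem, h.fr.κ_conj _ x n.mem, map_mul, map_mul] at e
  rw [e3]; exact e

theorem tp_move (n : NW D Q d p) {s : Cz d} (t : Tp (φ s) i) (m : ρ s (κ p) ≠ κ p) :
    ρ s (κ p) + κ p ∈ h.fr.img (Q p) ∧ (∃ c, ρ s (κ p) + κ p = ρ c (κ p)) ∧
      ∀ b : Cz d, Tp (φ b) i → ρ b (κ p) = κ p → ρ b (ρ s (κ p) + κ p) = ρ s (κ p) := by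
  obtain ⟨s', s1, s2⟩ := h.exists_tp n i
  have m1 := h.r_mem n i
  have m2 := (h.nl n h.fr).x_mem
  rcases h.tp_cases t s2 (h.L_fix n s1) with e | e | e
  · exact absurd ((h.app e _).trans (h.L_fix n s1)) m
  · rw [e]
    refine ⟨add_mem m1 m2, ⟨h.r i * h.r i, ?_⟩, fun b b1 b2 => ?_⟩
    · rw [map_mul, add_comm]; exact (h.rr i _).symm
    · rw [map_add, h.tp_r b1, b2, h.rr, add_comm (κ p), v2_add_add_cancel']
  · rw [e, h.rr, add_comm (κ p), v2_add_add_cancel']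
    exact ⟨m1, ⟨_, rfl⟩, fun b b1 b2 => by rw [h.tp_r b1, b2, h.rr, add_comm]⟩

theorem disj (n : NW D Q d p) (n' : NW D Q d x) (c : p * x ≠ x * p) {e : G} (e1 : e ∈ Q d)
    (e2 : e ∈ Q p) (e3 : e ∈ Q x) : e = 1 ∨ e = d := by
  have k : ∀ {p x}, NW D Q d p → NW D Q d x → p * x ≠ x * p → e ∈ Q p → e ∈ Q x → ∀ s : Cz d,
      (s : G) ∈ Q x → Tp (φ s) 0 → ρ s (κ e) = κ e := fun {p x} n n' c e2 e3 s s1 s2 => by
    refine (h.E_conj n' s1 e1 e3).resolve_right fun k => c ?_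
    have N := h.nl n h.fr
    have m := add_mem (h.tp_move n s2 (h.L_move n' s1 s2.ne_one n.mem c)).1 N.x_mem
    rw [v2_add_add_cancel'] at m
    have m2 := N.polar_E m (h.fr.κ_mem_img e2 e1)
    rw [← h.fr.polar_rho s, h.app_sq s2.mul_self, k, polar_add_right,
      N.polar_E N.x_mem (h.fr.κ_mem_img e2 e1), zero_add] at m2
    exact (h.fr.comm_iff p n.mem x n'.mem).2 m2
  obtain ⟨s, s1, s2⟩ := h.exists_tp n' 0
  obtain ⟨s', s1', s2'⟩ := h.exists_tp n 0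
  rw [← h.fr.κ_zero e e1]
  by_contra e0
  exact h.L_move n' s1 s2.ne_one n.mem c ((h.app (h.tp_uniq s2 s2' e0 (k n n' c e2 e3 s s1 s2)
    (k n' n (Ne.symm c) e3 e2 s' s1' s2')) _).trans (h.L_fix n s1'))

theorem split (n : NW D Q d p) (n' : NW D Q d x) (c : p * x ≠ x * p) {s : G} (hs : s ∈ Q d) :
    ∃ e ∈ Q d, e ∈ Q p ∧ ∃ f ∈ Q d, f ∈ Q x ∧ s = e * f := by
  have := h.fr.finite
  have h1 := Submodule.finrank_sup_add_finrank_inf_eq (h.fr.img (Q p)) (h.fr.img (Q x))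
  have h2 : h.fr.img (Q p) ⊓ h.fr.img (Q x) = ⊥ := (Submodule.eq_bot_iff _).2 (by
    rintro _ ⟨⟨e, e2, e1, rfl⟩, e3⟩
    exact (h.fr.κ_zero e e1).2 (h.disj n n' c e1 e2 ((h.nw_mem_img n' h.fr e1).1 e3)))
  rw [h2, finrank_bot, (h.nr n 0).finrank_E, (h.nr n' 0).finrank_E] at h1
  have h3 : h.fr.img (Q p) ⊔ h.fr.img (Q x) = ⊤ := Submodule.eq_top_of_finrank_eq (by rw [h.dim]; omega)
  obtain ⟨_, ⟨e, e2, e1, rfl⟩, _, ⟨f, f2, f1, rfl⟩, k⟩ := Submodule.mem_sup.1 (h3.ge (Submodule.mem_top (x := κ s)))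
  rw [← h.fr.κ_mul e e1 f f1, eq_comm, h.fr.κ_eq_iff hs (mul_mem e1 f1)] at k
  rcases k with k | k
  · exact ⟨e, e1, e2, f, f1, f2, k⟩
  · exact ⟨e, e1, e2, f * d, mul_mem f1 h.fr.z_mem, mul_mem f2 (h.nw_symm n').mem, by rw [k, mul_assoc]⟩

theorem idx (n : NW D Q d x) {s : Cz d} (t : Tp (φ s) i) (e : ρ s (κ x) = κ x) {a b : G} (a1 : a ∈ Q d)
    (b1 : b ∈ Q d) (a2 : ρ s (κ a) = κ a) (b2 : ρ s (κ b) = κ b) (a3 : a ∉ Q x) (b3 : b ∉ Q x) :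
    a * b ∈ Q x := by
  have := h.fr.finite
  obtain ⟨s', s1, s2⟩ := h.exists_tp n i
  have e1 := h.eqv.2 (h.tp_uniq t s2 (h.κ_ne n) e (h.L_fix n s1))
  have f := (h.free t.mul_self t.ne_one).2
  have k := (h.nl n h.fr).finrank_Yg_le (g := ρ s) (e1 ▸ ⟨s', s1, rfl⟩)
  rw [← h.nw_mem_img n h.fr (mul_mem a1 b1), h.fr.κ_mul a a1 b b1]
  exact (idx2 inf_le_left k (f ▸ mem_Cg.2 a2) (f ▸ mem_Cg.2 b2)
    (fun m => a3 ((h.nw_mem_img n h.fr a1).1 m.2)) fun m => b3 ((h.nw_mem_img n h.fr b1).1 m.2)).2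

/-- an element of `Q d` commuting with all collinear points modulo `d` -/
theorem cent_of {c : G} (hc : c ∈ Q d) (k : ∀ x, NW D Q d x → c * x = x * c) : c = 1 ∨ c = d := by
  obtain ⟨x, n⟩ := h.ex
  obtain ⟨p, n', e⟩ := h.exists_opp n
  choose s s1 s2 using h.exists_tp n
  let W : V → Prop := fun v => ∀ g : Cz d, polar q v (ρ g (κ x)) = 0
  have step : ∀ i v, v ≠ 0 → W v → (∀ j, j < i → ρ (s j) v = v) →
      ∃ v, v ≠ 0 ∧ W v ∧ ∀ j, j ≤ i → ρ (s j) v = v := fun i v v0 w f => by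
    by_cases e : ρ (s i) v = v
    · exact ⟨v, v0, w, fun j hj => hj.eq_or_lt.elim (fun k => k ▸ e) (f j)⟩
    refine ⟨ρ (s i) v + v, fun k => e (v2_add_eq_zero.1 k), fun g => ?_, fun j hj => ?_⟩
    · rw [polar_add_left, w, add_zero, ← h.fr.polar_rho (s i), h.app_sq (s2 i).mul_self,
        ← h.app1 (map_mul φ _ _), w]
    · rcases hj.eq_or_lt with rfl | k
      · rw [map_add, h.app_sq (s2 j).mul_self, add_comm]
      · rw [map_add, h.app2 ((s2 j).commute (s2 i) k.ne), f j k]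
  rw [← h.fr.κ_zero c hc]
  by_contra c0
  obtain ⟨v, v0, w, f⟩ := step 0 _ c0 (fun g => by
    have n2 := nw_cz h.toLF n (Cz_comm g)
    rw [← h.fr.κ_conj g x n.mem]
    exact (h.fr.comm_iff c hc _ n2.mem).1 (k _ n2)) (fun j hj => absurd hj (Fin.not_lt_zero j))
  obtain ⟨v, v0, w, f⟩ := step 1 v v0 w fun j hj => f j (by omega)
  obtain ⟨v, v0, w, f⟩ := step 2 v v0 w fun j hj => f j (by omega)
  obtain ⟨g, hg⟩ := h.trans_κ n n'
  have := w g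
  rw [hg, h.three s2 v0 (h.κ_ne n) (fun i => f i (by omega)) fun i => h.L_fix n (s1 i)] at this
  exact e ((h.fr.comm_iff x n.mem p n'.mem).2 this).symm

end TF

/-- frames at all points -/
structure T3 (D : Set G) (Q : G → Subgroup G) : Prop extends LF D Q 4 where
  tf : ∀ {d}, d ∈ D → ∃ (κ : G → Fin 8 → ZMod 2) (ρ : Cz d →* _) (q : _) (φ : _), TF D Q d κ ρ q φ

variable [Finite G] {D : Set G} {Q : G → Subgroup G} {z d x : G}

theorem t3_of (h : LF D Q 4) (n : NW D Q z x) (φ : Cz z →* S33) (h1 : ∀ c, φ c = 1 ↔ (c : G) ∈ Q z)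
    (h2 : Function.Surjective φ) : T3 D Q := by
  refine ⟨h, fun {d} hd => ?_⟩
  obtain ⟨g, rfl⟩ := h.trans n.zD hd
  obtain ⟨κ, ρ, q, f⟩ := exists_fr (h.lx hd) (h.card hd)
  let θ : Cz (g * z * g⁻¹) →* Cz z := ((MulAut.conj g⁻¹).toMonoidHom.comp (Cz _).subtype).codRestrict (Cz z) fun c =>
    mem_Cz.2 (by
      change g⁻¹ * c * g⁻¹⁻¹ * z = z * (g⁻¹ * c * g⁻¹⁻¹)
      calc _ = g⁻¹ * (c * (g * z * g⁻¹)) * g := by group
        _ = _ := by rw [Cz_comm c]; group)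
  refine ⟨κ, ρ, q, φ.comp θ, h, f, fun c => ?_, h2.comp fun c => ⟨⟨g * c * g⁻¹, mem_Cz.2 ?_⟩, ?_⟩,
    _, h.nw_conj n g⟩
  · rw [MonoidHom.comp_apply, h1, h.equi n.zD, mem_cj]
    change g⁻¹ * c * g⁻¹⁻¹ ∈ _ ↔ _
    rw [inv_inv]
  · rw [conj_mul, conj_mul, Cz_comm c]
  · exact Subtype.ext (by change g⁻¹ * (g * c * g⁻¹) * g⁻¹⁻¹ = c; group)

theorem T3.common (h : T3 D Q) (hz : z ∈ D) (hd : d ∈ D) (c : d * z = z * d) (hn : d ∉ Q z) :
    ∃ x ∈ D, x ∈ Q z ∧ x ∈ Q d := by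
  obtain ⟨κ, ρ, q, φ, f⟩ := h.tf hz
  have hn' : z ∉ Q d := fun e => hn (h.mem_symm hd hz e)
  have dd := h.sq hd
  have m : ∀ r ∈ CQ Q d z, r ∈ Cz z := fun r hr => hr.2
  have sq : ∀ r ∈ CQ Q d z, r * r = 1 := fun r hr => ((h.lx hd).sq r hr.1).resolve_right fun e => hn (by
    have k : ∀ a : P3, a * a * (a * a) = 1 → a * a = 1 := by decide
    rw [← e]
    refine (f.ker (⟨r, m r hr⟩ * ⟨r, m r hr⟩)).1 (funext fun i => ?_)
    rw [map_mul]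
    refine k _ (congrFun (show _ * _ * (_ * _) = (1 : S33) from ?_) i)
    rw [← map_mul, ← map_mul, ← map_one φ]
    exact congrArg φ (Subtype.ext (by change r * r * (r * r) = 1; rw [e, dd])))
  have cm : ∀ r ∈ CQ Q d z, ∀ s ∈ CQ Q d z, r * s = s * r := fun r hr s hs => by
    rw [← inv_eq_of_mul_eq_one_right (sq _ (mul_mem hr hs)), mul_inv_rev, inv_eq_of_mul_eq_one_right (sq r hr),
      inv_eq_of_mul_eq_one_right (sq s hs)]
  have sq' : ∀ a : Cz z, (a : G) ∈ CQ Q d z → φ a * φ a = 1 := fun a ha => by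
    rw [← map_mul, show a * a = 1 from Subtype.ext (sq a ha), map_one]
  obtain ⟨x, n, hx⟩ := f.exists_fixed {a | (a : G) ∈ CQ Q d z} sq' fun a ha b hb => by
    rw [← map_mul, ← map_mul, show a * b = b * a from Subtype.ext (cm a ha b hb)]
  have k1 : ∀ r ∈ CQ Q d z, r ∉ Q z → Commute r x := fun r hr r1 => by
    have := f.inverts (t := ⟨r, m r hr⟩) (sq r hr) n.mem (by
      rw [(f.free (sq' _ hr) fun e => r1 ((f.ker _).1 e)).2]; exact mem_Cg.2 (hx _ hr))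
    rwa [h.inv n.xD, mul_inv_eq_iff_eq_mul] at this
  have dm : d ∈ CQ Q d z := mem_CQ.2 ⟨h.self_mem hd, c⟩
  have k2 : ∀ r ∈ CQ Q d z, Commute r x := fun r hr => by
    by_cases r1 : r ∈ Q z
    · have := (k1 _ (mul_mem hr dm) fun e => hn ((mul_mem_cancel_left r1).1 e)).mul_left (k1 d dm hn)
      rwa [mul_assoc, dd, mul_one] at this
    · exact k1 r hr r1
  obtain ⟨κ', ρ', q', φ', f'⟩ := h.tf hd
  let x' : Cz d := ⟨x, mem_Cz.2 (k2 d dm).symm⟩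
  let z' : Cz d := ⟨z, mem_Cz.2 c.symm⟩
  by_cases e1 : φ' x' = 1
  · exact ⟨x, n.xD, n.mem, (f'.ker x').1 e1⟩
  have z1 : φ' z' * φ' z' = 1 := by
    rw [← map_mul, show z' * z' = 1 from Subtype.ext (h.sq hz), map_one]
  by_cases e2 : φ' x' = φ' z'
  · exact ⟨_, (h.nw_third n).xD, (h.nw_third n).mem, (f'.ker (x' * z')).1 (by rw [map_mul, e2, z1])⟩
  have k3 := f'.four (by rw [← map_mul, show x' * x' = 1 from Subtype.ext (h.sq n.xD), map_one]) e1 z1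
    (fun e => hn' ((f'.ker z').1 e)) e2 (by
      rw [← map_mul, ← map_mul, show x' * z' = z' * x' from Subtype.ext (h.nw_comm n)])
  have k4 : f'.fr.img (CQ Q d z) ≤ Cg (ρ' x') ⊓ Cg (ρ' z') := by
    rintro _ ⟨r, hr, r1, rfl⟩
    exact ⟨mem_Cg.2 (by rw [← f'.fr.κ_conj x' r r1, ← (k2 r hr).eq, mul_inv_cancel_right]),
      mem_Cg.2 (by rw [← f'.fr.κ_conj z' r r1, ← (mem_CQ.1 hr).2, mul_inv_cancel_right])⟩
  have k5 := f'.fr.card_img (K := CQ Q d z) inf_le_left dm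
  have k6 := Nat.pow_le_pow_right two_pos (Nat.succ_le_succ ((Submodule.finrank_mono k4).trans k3))
  have A : Act (Q d) d z := ⟨h.lx hd, h.sq hz, c.symm, hn'⟩
  have c1 := A.le_card_Q1 (h.card hd)
  have c2 := A.card_Q1_le
  change _ ≤ 2 * Nat.card (CQ Q d z) at c2
  omega

end CL.D42
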