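import Mathlib
import Cfsg.Agent.SPOR.D42.Mod2

/-!
Opposite pairs of root involutions and their common centralizer.
-/

set_option autoImplicit false

namespace CL.D42

open CL.LE CL.LX CL.MSS QuadraticMap S36 Module

variable {G : Type*} [Group G] {D : Set G} {Q : G → Subgroup G} {z z' x l y w : G}

/-- two members of `D` generating `S₃` -/
structure Opp (D : Set G) (z z' : G) : Prop where
  zD : z ∈ D
  zD' : z' ∈ D
  sq : z * z = 1
  sq' : z' * z' = 1
  br : z * z' * z = z' * z * z'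
  ne : z * z' ≠ z' * z

/-- conjugation by the third involution -/
def pr (z z' x : G) : G := z * z' * z * x * (z * z' * z)⁻¹

/-- `x` spans a natural module for `⟨z, z'⟩` -/
structure Good (D : Set G) (Q : G → Subgroup G) (z z' x : G) : Prop extends NW D Q z x where
  rel : z' * x * z' = x * pr z z' x
  col : pr z z' x ∈ Q x

theorem pr_mul (a b : G) : pr z z' (a * b) = pr z z' a * pr z z' b := (conj_mul ..).symm

theorem pr_inj {a b : G} (e : pr z z' a = pr z z' b) : a = b := by simpa [pr] using e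

theorem pr_fix (h1 : l * z = z * l) (h2 : l * z' = z' * l) : pr z z' l = l := by
  have : Commute l (z * z' * z) := (Commute.mul_right h1 h2).mul_right h1
  rw [pr, ← this.eq, mul_inv_cancel_right]

theorem pr_inv (a : G) : pr z z' a⁻¹ = (pr z z' a)⁻¹ := by simp only [pr]; group

theorem pr_conj (h1 : l * z = z * l) (h2 : l * z' = z' * l) (a : G) :
    pr z z' (l * a * l⁻¹) = l * pr z z' a * l⁻¹ := by rw [pr_mul, pr_mul, pr_inv, pr_fix h1 h2]

theorem inv2 {a : G} (h : a * a = 1) : a⁻¹ = a := inv_eq_of_mul_eq_one_right h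

theorem can {a : G} (h : a * a = 1) (b : G) : a * (a * b) = b := by rw [← mul_assoc, h, one_mul]

namespace Opp

variable (o : Opp D z z')
include o

theorem pr_eq (a : G) : pr z z' a = z * z' * z * a * (z * z' * z) := by
  simp only [pr, mul_inv_rev, inv2 o.sq, inv2 o.sq', mul_assoc]

theorem pr_pr (a : G) : pr z z' (pr z z' a) = a := by
  rw [o.pr_eq, o.pr_eq]; simp only [mul_assoc, can o.sq, can o.sq', o.sq, mul_one, o.sq']

theorem pr_left : pr z z' z = z' := by
  rw [o.pr_eq]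
  simp only [mul_assoc, can o.sq]
  rw [← mul_assoc z' z, ← mul_assoc _ z' z, ← o.br]
  simp only [mul_assoc, can o.sq, o.sq, mul_one]

theorem pr_right : pr z z' z' = z := by
  have := o.pr_pr z
  rwa [o.pr_left] at this

end Opp

variable {n : ℕ}

theorem pr_mem (h : LF D Q n) {d a : G} (hd : d ∈ D) (ha : a ∈ Q d) : pr z z' a ∈ Q (pr z z' d) :=
  h.mem_conj hd _ ha

theorem Opp.rel' (o : Opp D z z') (r : z' * x * z' = x * pr z z' x) :
    z * pr z z' x * z = pr z z' x * x := by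
  have := congrArg (pr z z') r
  rwa [pr_mul, pr_mul, pr_mul, o.pr_right, o.pr_pr] at this

theorem Opp.not_mul (o : Opp D z z') (h : LF D Q n) (g : NW D Q z x) (r : z' * x * z' = x * pr z z' x)
    (e : z' * (x * z) * z' = x * z * pr z z' (x * z)) : False := by
  have e1 := o.rel' r
  rw [pr_mul, o.pr_left, ← mul_assoc, ← mul_assoc, mul_left_inj,
    show z' * x = x * pr z z' x * z' by rw [← r, mul_assoc, o.sq', mul_one], mul_assoc, mul_assoc,
    mul_assoc, mul_left_cancel_iff, show z * pr z z' x = pr z z' x * x * z by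
      rw [← e1, mul_assoc, o.sq, mul_one], mul_assoc, mul_left_cancel_iff, mul_left_inj] at e
  exact o.ne (e ▸ (h.nw_comm g).symm)

namespace Good

variable (g : Good D Q z z' x) (h : LF D Q n) (o : Opp D z z')
include g h o

theorem nw' : NW D Q z' (pr z z' x) := by
  have := h.nw_conj g.toNW (z * z' * z)
  rwa [show z * z' * z * z * (z * z' * z)⁻¹ = z' from o.pr_left] at this

theorem rel' : z * pr z z' x * z = pr z z' x * x := have _ := h; o.rel' g.rel

omit o in
theorem comm : pr z z' x * x = x * pr z z' x := (h.lx g.xD).z_comm _ g.col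

theorem nwx : NW D Q x (pr z z' x) := ⟨g.xD, (g.nw' h o).xD, g.col, fun e => by
  have := g.rel
  rw [e, h.sq g.xD, mul_eq_one_iff_eq_inv, inv2 o.sq', mul_eq_left] at this
  exact h.ne_one g.xD this⟩

theorem ne_left : z * pr z z' x ≠ pr z z' x * z := fun e => by
  have := g.rel' h o
  rw [e, mul_assoc, o.sq, mul_left_cancel_iff] at this
  exact h.ne_one g.xD this.symm

theorem ne_right : z' * x ≠ x * z' := fun e => by
  have := g.rel
  rw [e, mul_assoc, o.sq', mul_left_cancel_iff] at this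
  exact h.ne_one (g.nw' h o).xD this.symm

omit o in
theorem conj (h1 : l * z = z * l) (h2 : l * z' = z' * l) : Good D Q z z' (l * x * l⁻¹) := by
  refine ⟨nw_cz h g.toNW h1, ?_, ?_⟩
  · rw [pr_conj h1 h2, conj_mul, ← g.rel, ← conj_mul, ← conj_mul, h2, mul_inv_cancel_right]
  · rw [pr_conj h1 h2]; exact h.mem_conj g.xD l g.col

theorem uniq {V : Type*} [AddCommGroup V] [Module (ZMod 2) V] {κ : G → V} {ρ : Cz z →* (V ≃ₗ[ZMod 2] V)}
    {q : QuadraticForm (ZMod 2) V} (f : Fr z (Q z) κ ρ q) (g' : Good D Q z z' y) (e : κ y = κ x) :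
    y = x := ((f.κ_eq_iff g'.mem g.mem).1 e).resolve_right fun k => o.not_mul h g.toNW g.rel (k ▸ g'.rel)

end Good

variable [Finite G]

theorem Good.exists_F (g : Good D Q z z' x) (h : T3 D Q) (o : Opp D z z') {s : G} (s1 : s ∈ Q x)
    (s2 : s * z = z * s) :
    ∃ f ∈ Q x, f ∈ Q (pr z z' x) ∧ f * z = z * f ∧ f * z' = z' * f ∧ s⁻¹ * f ∈ Q z := by
  obtain ⟨κ, ρ, q, φ, t⟩ := h.tf g.xD
  have n' := g.nw' h.toLF o
  obtain ⟨e, e1, e2, f, f1, f2, rfl⟩ := t.split (h.nw_symm g.toNW) (g.nwx h.toLF o) (g.ne_left h.toLF o) s1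
  have ez := (h.lx g.zD).z_comm e e2
  have fz : f * z = z * f := by
    rw [mul_assoc, ← mul_assoc z, ← ez, mul_assoc, mul_left_cancel_iff] at s2; exact s2
  have k : (e * f)⁻¹ * f ∈ Q z := by
    rw [mul_inv_rev]; exact (h.lx g.zD).norm' fz (inv_mem e2)
  rcases (h.lx n'.xD).toES.conj_cases f2 (h.nw_symm n').mem with a | a
  · exact ⟨f, f1, f2, fz, (mul_inv_eq_iff_eq_mul.1 a).symm, k⟩
  · refine ⟨f * x, mul_mem f1 (h.self_mem g.xD), mul_mem f2 (h.nw_symm (g.nwx h.toLF o)).mem,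
      Commute.mul_left fz (h.nw_comm g.toNW), ?_, by rw [← mul_assoc]; exact mul_mem k g.mem⟩
    rw [eq_comm, ← mul_inv_eq_iff_eq_mul, ← conj_mul, a, inv2 o.sq', g.rel, ← g.comm h.toLF, mul_assoc,
      can (h.sq n'.xD)]

theorem T3.exists_opp (h : T3 D Q) (n : NW D Q z x) : ∃ y w, Opp D y w ∧ Good D Q y w x := by
  obtain ⟨κ, ρ, q, φ, t⟩ := h.tf n.zD
  obtain ⟨κ', ρ', q', φ', t'⟩ := h.tf n.xD
  have n' := h.nw_symm n
  obtain ⟨w, nw, cw⟩ := t.exists_opp n
  obtain ⟨y, ny, cy⟩ := t'.exists_opp n'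
  have xz := h.nw_comm n
  have e1 := h.nw_conj_of_not_comm n nw.mem cw
  have e2 := h.nw_conj_of_not_comm n' ny.mem cy
  have e3 : y * x * y⁻¹ = x := by rw [h.nw_comm ny, mul_inv_cancel_right]
  have e4 : w * z * w⁻¹ = z := by rw [h.nw_comm nw, mul_inv_cancel_right]
  have ww := h.sq nw.xD
  have yy := h.sq ny.xD
  have r1 : w * y * x * (w * y)⁻¹ = x * z := by
    calc _ = w * (y * x * y⁻¹) * w⁻¹ := by group
      _ = _ := by rw [e3, e1]
  have r2 : w * y * z * (w * y)⁻¹ = x := by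
    calc _ = w * (y * z * y⁻¹) * w⁻¹ := by group
      _ = x := by rw [e2, ← conj_mul, e1, e4, xz, can (h.sq n.zD)]
  have r3 : w * y * (x * z) * (w * y)⁻¹ = z := by
    rw [← conj_mul, r1, r2, xz, mul_assoc, h.sq n.xD, mul_one]
  have m : (w * y) ^ 3 ∈ Q (x * z) := by
    have a := h.mem_conj n.xD w ny.mem
    have b := h.mem_conj n.zD y nw.mem
    rw [e1, inv2 ww] at a
    rw [e2, ← xz, inv2 yy] at b
    have := mul_mem a b
    convert this using 1
    simp only [pow_succ, pow_zero, one_mul, mul_assoc]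
  have m4 : ((w * y) ^ 3) ^ 4 = 1 := (h.lx (h.nw_third n).xD).toES.pow_four m
  obtain ⟨u, hu⟩ : ∃ u, u = w * y * (w * y) * y * (w * y * (w * y))⁻¹ := ⟨_, rfl⟩
  have uD : u ∈ D := hu ▸ h.conj ny.xD _
  have uu := h.sq uD
  have uz : u ∈ Q z := by
    have := h.mem_conj n.xD (w * y * (w * y)) ny.mem
    rwa [← hu, show w * y * (w * y) * x * (w * y * (w * y))⁻¹ =
      w * y * (w * y * x * (w * y)⁻¹) * (w * y)⁻¹ by group, r1, r3] at this
  have ux : u * x ≠ x * u := fun e => cy (by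
    rw [hu, ← r2, ← r3, show w * y * (w * y * (x * z) * (w * y)⁻¹) * (w * y)⁻¹ =
      w * y * (w * y) * (x * z) * (w * y * (w * y))⁻¹ by group, conj_mul, conj_mul, mul_left_inj,
      mul_right_inj, ← mul_assoc, h.nw_comm ny, mul_assoc, mul_assoc, mul_right_inj] at e
    exact e)
  have e5 := h.nw_conj_of_not_comm n uz ux
  have e6 : u * z * u⁻¹ = z := by rw [(h.lx n.zD).z_comm u uz, mul_inv_cancel_right]
  have uy : u * y = (w * y) ^ 4 := by
    rw [hu]; simp only [mul_inv_rev, inv2 ww, inv2 yy, mul_assoc, can yy, pow_succ, pow_zero, one_mul]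
  have br : y * u * y = u * y * u := by
    have : (u * y) ^ 3 = 1 := by rw [uy, ← pow_mul, mul_comm, pow_mul, m4]
    rw [← inv_inj, eq_comm, inv_eq_iff_mul_eq_one, ← this]
    simp only [mul_inv_rev, inv2 uu, inv2 yy, mul_assoc, pow_succ, pow_zero, one_mul]
  have p1 : pr y u x = z := by
    calc _ = y * (u * (y * x * y⁻¹) * u⁻¹) * y⁻¹ := by rw [pr]; group
      _ = z := by rw [e3, e5, ← conj_mul, e3, e2, ← xz, can (h.sq n.xD)]
  refine ⟨y, u, ⟨ny.xD, uD, yy, uu, br, fun e => h.ne_one n.xD ?_⟩, h.nw_symm ny, ?_, ?_⟩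
  · rw [pr, e, mul_assoc u, yy, mul_one, e5] at p1
    simpa using p1
  · rw [p1, ← e5, inv2 uu]
  · rw [p1]; exact n'.mem

end CL.D42
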