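import Mathlib
import Cfsg.Agent.SPOR.D42.Geo

/-!
The centralizer of an opposite pair covers `C(y) / Q y`.
-/

set_option autoImplicit false

namespace CL.D42

open CL.LE CL.LX CL.MSS QuadraticMap S36 Module

variable {G : Type*} [Group G] [Finite G] {D : Set G} {Q : G → Subgroup G} {z x y w : G}
  {V : Type*} [AddCommGroup V] [Module (ZMod 2) V] {κ : G → V} {q : QuadraticForm (ZMod 2) V} {i : Fin 3}

theorem Good.core {ρ : Cz z →* (V ≃ₗ[ZMod 2] V)} {φ : Cz z →* S33} (g : Good D Q y w x) (h : T3 D Q)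
    (o : Opp D y w) (t : TF D Q z κ ρ q φ) (hz : pr y w x = z) {u : Cz z} (u1 : (u : G) ∈ Q x)
    (u2 : (u : G) ∈ Q y) (tp : Tp (φ u) i) :
    Good D Q y w u ∧ NW D Q z (pr y w u) ∧ κ (pr y w u) = ρ u (κ w) + κ w := by
  have L := h.toLF
  have zw : NW D Q z w := L.nw_symm (hz ▸ g.nw' L o)
  have xz : NW D Q x z := hz ▸ g.nwx L o
  have zx := L.nw_symm xz
  have xy := L.nw_symm g.toNW
  have cw := g.ne_right L o
  have cy : y * z ≠ z * y := hz ▸ g.ne_left L o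
  have r1 : w * x * w = x * z := hz ▸ g.rel
  have r2 : y * z * y = z * x := hz ▸ g.rel' L o
  have hz' : pr y w z = x := hz ▸ o.pr_pr x
  have uu : (u : G) * u = 1 := L.nw_sq xy u1 u2
  have uy := (L.lx o.zD).z_comm _ u2
  have mv := t.L_move zx u1 tp.ne_one zw.mem cw
  obtain ⟨m1, ⟨c0, m2⟩, -⟩ := t.tp_move zw tp mv
  have kc := t.fr.κ_commutator u zw.mem
  have c1 : u * w * (u : G)⁻¹ * w⁻¹ ∈ Q z := mul_mem (t.fr.norm u (Cz_comm u) w zw.mem) (inv_mem zw.mem)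
  rw [inv2 uu, inv2 o.sq'] at kc c1
  have c2 := (L.nw_mem_img zw t.fr c1).1 (kc ▸ m1)
  have c3 := t.nw_of_κ zw c1 (kc.trans m2)
  have t1 : pr y w u ∈ Q w := by simpa only [o.pr_left] using pr_mem (z := y) (z' := w) L o.zD u2
  have t2 : pr y w u ∈ Q z := by simpa only [hz] using pr_mem (z := y) (z' := w) L g.xD u1
  have t3 : pr y w u * x = x * pr y w u := by rw [← hz', ← pr_mul, ← pr_mul, Cz_comm u]
  have t4 : y * pr y w u * y = u * (u * w * u * w) := by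
    rw [o.pr_eq, mul_assoc (y * w) y u, ← uy]
    simp only [mul_assoc, can o.sq, can uu, o.sq, mul_one]
  have t5 : (pr y w u)⁻¹ * (u * w * u * w) ∈ Q x := by
    have a := mul_mem ((L.lx g.xD).norm' t3 xy.mem) xy.mem
    have b := (L.lx g.xD).norm' t3 u1
    have e : (pr y w u)⁻¹ * y * pr y w u * y = (pr y w u)⁻¹ * (u * (u * w * u * w)) := by
      rw [← t4]; group
    rw [e] at a
    convert mul_mem (inv_mem b) a using 1
    group
  have e : u * w * u * w = pr y w u := by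
    rcases t.disj zw zx cw (mul_mem (inv_mem t2) c1) (mul_mem (inv_mem t1) c2) t5 with e | e
    · exact (inv_mul_eq_one.1 e).symm
    · rw [inv_mul_eq_iff_eq_mul] at e
      rw [e] at t4
      have k : y * (y * pr y w u * y) * y = u * (y * pr y w u * y) * (y * z * y) := by
        nth_rewrite 1 [t4]
        simp only [mul_assoc, can o.sq]
        rw [← mul_assoc y, ← uy, mul_assoc]
      rw [t4, r2] at k
      nth_rewrite 1 [← t4] at k
      simp only [mul_assoc, can o.sq, can uu, o.sq, mul_one, can (L.sq zw.zD), left_eq_mul] at k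
      exact absurd k (L.ne_one g.xD)
  rw [e] at kc c3
  have uD : (u : G) ∈ D := by simpa only [show _ * _ * _ = _ from o.pr_pr u] using L.conj c3.xD (y * w * y)
  have rel : w * u * w = u * pr y w u := by rw [← e]; simp only [mul_assoc, can uu]
  refine ⟨⟨⟨o.zD, uD, u2, fun k => cy (k ▸ Cz_comm u)⟩, rel, L.mem_symm c3.xD uD ?_⟩, c3, kc⟩
  generalize pr y w u = c at *
  have wc : w ∈ Q c := L.mem_symm o.zD' c3.xD t1
  have fc : ρ u (κ c) = κ c := by rw [kc, map_add, t.app_sq tp.mul_self, add_comm]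
  obtain ⟨s, s1, s2⟩ := t.exists_tp c3 i
  have s3 := t.tp_uniq s2 tp (t.κ_ne c3) (t.L_fix c3 s1) fc
  obtain ⟨s, s1, s3, ss⟩ : ∃ s : Cz z, (s : G) ∈ Q c ∧ φ s = φ u ∧ (s : G) * s = 1 := by
    rcases (L.lx c3.xD).sq _ s1 with k | k
    · exact ⟨s, s1, s3, k⟩
    refine ⟨s * ⟨w, mem_Cz.2 (L.nw_comm zw)⟩, mul_mem s1 wc, ?_, ?_⟩
    · rw [map_mul, (t.ker ⟨w, _⟩).2 zw.mem, mul_one, s3]
    · change s * w * (s * w) = 1
      rw [(L.lx c3.xD).toES.mul_sq_of_not_comm s1 wc fun k' => mv (by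
        rw [← t.app s3, ← t.fr.κ_conj s w zw.mem, k', mul_inv_cancel_right]), k, o.sq', mul_one,
        L.sq c3.xD]
  have m : (s : G) * u ∈ Q z := (t.ker (s * u)).1 (by rw [map_mul, s3, tp.mul_self])
  have su : ∀ a, (s : G) * u * a ∈ Q c → u * a ∈ Q c := fun a ha => by
    rwa [mul_assoc, mul_mem_cancel_left s1] at ha
  by_contra hn
  have cz := L.nw_comm c3
  have k := su x (t.idx c3 tp fc m zx.mem (by
      rw [← t.fr.κ_conj u _ m, ← t.fr.κ_inv m, mul_inv_rev, inv2 uu, inv2 ss]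
      simp only [mul_assoc, uu, mul_one]) (t.L_fix zx u1)
    (fun k => hn (by simpa using su 1 (by simpa using k))) fun k => by
      rcases (L.lx c3.xD).toES.conj_cases k wc with a | a <;> rw [inv2 o.sq', r1] at a
      exacts [L.ne_one zw.zD (by simpa using a), c3.ne (mul_left_cancel a).symm])
  have e2 : w * (u * x) * w⁻¹ = u * x * (c * z) := by
    rw [← conj_mul, inv2 o.sq', rel, r1, mul_assoc, ← mul_assoc c, t3]; group
  rcases (L.lx c3.xD).toES.conj_cases k wc with a | a <;> rw [e2] at a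
  · rw [mul_eq_left, mul_eq_one_iff_eq_inv, inv2 (L.sq zw.zD)] at a
    exact c3.ne a
  · exact L.ne_one zw.zD (by simpa using a)

theorem Good.new (g : Good D Q y w x) (h : T3 D Q) (o : Opp D y w) :
    ∃ u : Fin 3 → G, (∀ i, Good D Q y w (u i)) ∧
      ∀ K : Subgroup G, x ∈ K → y ∈ K → (∀ i, u i ∈ K) → ∀ e ∈ Q x, e ∈ Q y → e ∈ K := by
  have L := h.toLF
  have xz := g.nwx L o
  have zx := L.nw_symm xz
  have xy := L.nw_symm g.toNW
  have cy := g.ne_left L o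
  obtain ⟨z, hz⟩ : ∃ z, pr y w x = z := ⟨_, rfl⟩
  rw [hz] at xz zx cy
  obtain ⟨κ, ρ, q, φ, t⟩ := h.tf zx.zD
  obtain ⟨κ', ρ', q', φ', t'⟩ := h.tf g.xD
  have k : ∀ i, ∃ u : Cz z, (u : G) ∈ Q x ∧ (u : G) ∈ Q y ∧ Tp (φ u) i := fun i => by
    obtain ⟨s, s1, s2⟩ := t.exists_tp zx i
    obtain ⟨e, -, e2, f, f1, f2, k⟩ := t'.split xz xy cy.symm s1
    let e' : Cz z := ⟨e, mem_Cz.2 (t.fr.z_comm e e2)⟩
    have : ((e'⁻¹ * s : Cz z) : G) = f := inv_mul_eq_iff_eq_mul.2 k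
    exact ⟨e'⁻¹ * s, this ▸ f1, this ▸ f2, by rwa [map_mul, map_inv, (t.ker e').2 e2, inv_one, one_mul]⟩
  choose u u1 u2 u3 using k
  refine ⟨fun i => u i, fun i => (g.core h o t hz (u1 i) (u2 i) (u3 i)).1, fun K k1 k2 k3 => ?_⟩
  have k : ∀ e ∈ Q x, e ∈ Q y → e * z = z * e → e ∈ K := fun e e1 e2 e3 => by
    lift e to Cz z using mem_Cz.2 e3
    obtain ⟨c, ⟨c1, c2, c3⟩, c4⟩ := mem_of_tp (H := ((K ⊓ (Q x ⊓ Q y)).subgroupOf (Cz z)).map φ) u3
      (fun i => ⟨u i, ⟨k3 i, u1 i, u2 i⟩, rfl⟩) (t.L_sq zx e1) fun i => t.L_comm zx e1 (u1 i)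
    have m : (c : G)⁻¹ * e ∈ Q z := (t.ker (c⁻¹ * e)).1 (by rw [map_mul, map_inv, c4, inv_mul_cancel])
    rw [← mul_mem_cancel_left (inv_mem (show (c : G) ∈ K from c1))]
    rcases t'.disj (e := (c : G)⁻¹ * e) xz xy cy.symm (mul_mem (inv_mem c2) e1) m
      (mul_mem (inv_mem c3) e2) with a | a <;> rw [a]
    exacts [one_mem _, k1]
  intro e e1 e2
  by_cases e3 : e * z = z * e
  · exact k e e1 e2 e3
  · exact (mul_mem_cancel_right k2).1 (k _ (mul_mem e1 xy.mem) (mul_mem e2 (L.self_mem o.zD))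
      ((ES_comm_mul (L.lx g.xD).toES e1 xy.mem xz.mem).2 (iff_of_false e3 cy)))

variable {ρ : Cz y →* (V ≃ₗ[ZMod 2] V)} {φ : Cz y →* S33}

theorem Good.exists_tp (g : Good D Q y w x) (h : T3 D Q) (o : Opp D y w) (t : TF D Q y κ ρ q φ)
    (i : Fin 3) : ∃ f : Cz y, (f : G) ∈ Q x ∧ (f : G) ∈ Q (pr y w x) ∧ f * w = w * f ∧ Tp (φ f) i := by
  obtain ⟨s, s1, s2⟩ := t.exists_tp g.toNW i
  obtain ⟨f, f1, f2, f3, f4, f5⟩ := g.exists_F h o s1 (Cz_comm s)
  lift f to Cz y using mem_Cz.2 f3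
  have := (t.ker (s⁻¹ * f)).2 f5
  rw [map_mul, map_inv, inv_mul_eq_one] at this
  exact ⟨f, f1, f2, f4, this ▸ s2⟩

theorem Good.cov (g : Good D Q y w x) (h : T3 D Q) (o : Opp D y w) (t : TF D Q y κ ρ q φ) (c : S33) :
    ∃ l : Cz y, l * w = w * l ∧ φ l = c := by
  obtain ⟨u, u1, u2⟩ := g.new h o
  have : ((Cz w).subgroupOf (Cz y)).map φ = ⊤ := eq_top_of_tp fun j => by
    obtain ⟨f, f1, -, f3, f4⟩ := g.exists_tp h o t j
    obtain ⟨i, hi⟩ : ∃ i, ρ f (κ (u i)) ≠ κ (u i) := by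
      by_contra hc
      push Not at hc
      obtain ⟨e, e1, e2, e3⟩ := t.r_mem g.toNW j
      have := mem_Cg.1 (u2 (t.fr.pre (Cg (ρ f))) ⟨g.mem, mem_Cg.2 (t.L_fix g.toNW f1)⟩ (t.fr.z_mem_pre _)
        (fun i => ⟨(u1 i).mem, mem_Cg.2 (hc i)⟩) e e1 e2).2
      rw [e3, t.tp_r f4, t.L_fix g.toNW f1] at this
      exact t.κ_ne g.toNW (by simpa using t.fpf this)
    obtain ⟨f', g1, -, g3, g4⟩ := (u1 i).exists_tp h o t j
    exact ⟨_, ⟨f, mem_Cz.2 f3, rfl⟩, _, ⟨f', mem_Cz.2 g3, rfl⟩, f4, g4, fun e =>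
      hi ((t.app e _).trans (t.L_fix (u1 i).toNW g1))⟩
  obtain ⟨l, l1, l2⟩ := this.ge (Subgroup.mem_top c)
  exact ⟨l, mem_Cz.1 l1, l2⟩

/-- every collinear point has a good lift -/
theorem Good.lift (g : Good D Q y w x) (h : T3 D Q) (o : Opp D y w) (t : TF D Q y κ ρ q φ) {p : G}
    (n : NW D Q y p) : ∃ p', Good D Q y w p' ∧ κ p' = κ p := by
  obtain ⟨c, hc⟩ := t.trans_κ g.toNW n
  obtain ⟨l, l1, l2⟩ := g.cov h o t (φ c)
  exact ⟨_, g.conj h.toLF (Cz_comm l) l1, by rw [t.fr.κ_conj l x g.mem, t.app l2, hc]⟩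

theorem Good.eq_one (g : Good D Q y w x) (h : T3 D Q) (o : Opp D y w) (t : TF D Q y κ ρ q φ) {c : G}
    (c1 : c ∈ Q y) (c2 : c * w = w * c) : c = 1 := by
  refine (t.cent_of c1 fun p n => ?_).resolve_right fun e => o.ne (e ▸ c2)
  obtain ⟨p', g', e⟩ := g.lift h o t n
  have cy := t.fr.z_comm c c1
  have := g'.uniq h.toLF o t.fr (g'.conj h.toLF cy c2) (by
    rw [t.fr.κ_conj' cy g'.mem, (t.fr.rho_eq_one _).2 c1]; rfl)
  rw [t.fr.comm_iff c c1 p n.mem, ← e, ← t.fr.comm_iff c c1 p' g'.mem]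
  exact mul_inv_eq_iff_eq_mul.1 this

theorem Good.inj (g : Good D Q y w x) (h : T3 D Q) (o : Opp D y w) (t : TF D Q y κ ρ q φ) {a b : Cz y}
    (a1 : a * w = w * a) (b1 : b * w = w * b) (e : φ a = φ b) : a = b := by
  rw [← inv_mul_eq_one]
  exact Subtype.ext (g.eq_one h o t ((t.ker _).1 (by rw [map_mul, map_inv, e, inv_mul_cancel]))
    (Commute.mul_left (Commute.inv_left a1) b1))

end CL.D42
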