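import Mathlib
import Cfsg.Agent.INV.STD.O8B
import Cfsg.Agent.SPOR.F2Mat
import Cfsg.Agent.SPOR.Co1.QTab
import Cfsg.Agent.SPOR.A10.Act2
import Cfsg.Agent.SPOR.A10.UType

/-!
The group `O₈⁺(2)` in codes: the centraliser of a root element and a Sylow 2-subgroup.
-/

set_option autoImplicit false
set_option maxRecDepth 100000

namespace CL.D42P

open CL.K CL.CG CL.F2M CL.Reg CL.A10 CL.LX Cfsg Matrix
open CL.StdO8 (O8 Om index_Om)
open CL.Co1T.XQ (Q Q_good Q_dat Q_hom le_Q Rels)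
open CL.CE (ev ev_cons ev_nil ev_singleton Pres ltAll ltAll_spec)

attribute [local irreducible] gcode vcode

/-- the coordinates -/
def e8 : Fin 4 ⊕ Fin 4 ≃ Fin 8 := finSumFinEquiv

/-- reindexing -/
def rx : GL (Fin 4 ⊕ Fin 4) (ZMod 2) ≃* GL (Fin 8) (ZMod 2) :=
  Units.mapEquiv (reindexRingEquiv (ZMod 2) e8).toMulEquiv

/-- the matrix of an isometry -/
def fm : O8 →* GL (Fin 8) (ZMod 2) := rx.toMonoidHom.comp (Subgroup.subtype _)

theorem fm_inj : Function.Injective fm := rx.injective.comp Subtype.val_injective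

/-- codes -/
noncomputable def cd (g : O8) : ℕ := gcode (fm g)

/-- multiplication of codes -/
noncomputable abbrev mu : ℕ → ℕ → ℕ := mulC 8 0x101010101010101 255

/-- the code of the identity -/
abbrev c1 : ℕ := 0x8040201008040201

theorem ok8 : OK 8 0x101010101010101 255 := ⟨by decide, by decide, by decide +kernel⟩

theorem CG8 : IsCode (gcode : GL (Fin 8) (ZMod 2) → ℕ) mu c1 :=
  (show oneC 8 = c1 by decide +kernel) ▸ ok8.isCode

theorem CD : IsCode cd mu c1 := CG8.comp fm fm_inj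

/-- non-singular vectors -/
def SQ : ℕ := 0x6996c33ca55a0ff0996633cc55aaff0096963c3c5a5af0f06666ccccaaaa0000

theorem q_eq (v : Fin 8 → ZMod 2) :
    quadFormPlus 4 (ZMod 2) (v ∘ e8) = b2z (SQ.testBit (vcode v)) := by
  have : ∀ c < 256, quadFormPlus 4 (ZMod 2) (vdec 8 c ∘ e8) = b2z (SQ.testBit c) := by
    decide +kernel
  rw [← this _ (vcode_lt v), vdec_vcode]

/-- `r` is an isometry of order two -/
noncomputable def isoB (r : ℕ) : Bool :=
  F2M.unitB 8 0x101010101010101 255 r r && allN (fun v => Nat.beq (bit SQ (act 8 255 r v)) (bit SQ v)) 256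

theorem isoB_spec {r : ℕ} (h : isoB r = true) : Mem cd ⊤ r := by
  rw [isoB, Bool.and_eq_true] at h
  obtain ⟨g, -, rfl⟩ := ok8.mem_of_unitB h.1
  refine ⟨⟨rx.symm g, fun u _ => ?_⟩, trivial, congrArg gcode (rx.apply_symm_apply g)⟩
  obtain ⟨v, rfl⟩ : ∃ v : Fin 8 → ZMod 2, u = v ∘ e8 :=
    ⟨u ∘ e8.symm, by ext; simp⟩
  have := eq_of_beq (allN_spec h.2 _ (vcode_lt v))
  rw [ok8.act_gcode, bit_eq, bit_eq] at this
  have e : (Units.coeHom _ (rx.symm g) : Matrix _ _ _) *ᵥ (v ∘ e8) =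
      (g • v) ∘ e8 := by
    change (g.1.submatrix e8 e8) *ᵥ _ = _
    rw [submatrix_mulVec_equiv, Function.comp_assoc, Equiv.self_comp_symm, Function.comp_id]
    rfl
  change quadFormPlus 4 _ _ = quadFormPlus 4 _ _
  rw [e, q_eq, q_eq]
  revert this
  cases SQ.testBit (vcode (g • v)) <;> cases SQ.testBit (vcode v) <;> simp

/-- root elements and a reflection -/
def LL : List ℕ := [0x8040211208040201, 0x8041201408040201, 0x8040601008060201, 0x8040205008050201,
  0x8140201808040201, 0x8040209009040201, 0x8042241008040201, 0x8040a0100a040201, 0x8240281008040201,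
  0x8040203008040301, 0x80c020100c040201, 0x8448201008040201, 0x8040301008040203, 0xc0402010080c0201,
  0x8040201048840201, 0x840201080040201, 0x8060201008040601]

/-- the letters -/
noncomputable def gg (a : ℕ) : O8 := if a < 17 then elt cd (lget LL a) else 1

theorem cd_gg {a : ℕ} (ha : a < 17) : cd (gg a) = lget LL a := by
  have h : allLt (fun a => isoB (lget LL a)) 17 = true := by decide +kernel
  rw [gg, if_pos ha, (isoB_spec (allLt_iff.1 h a ha)).code_elt]

/-- the code of a word -/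
noncomputable def wv (w : List ℕ) : ℕ :=
  List.rec (motive := fun _ => ℕ) c1 (fun a _ ih => mu (lget LL a) ih) w

theorem cd_ev {w : List ℕ} (hw : ltAll 17 w = true) : cd (ev gg w) = wv w := by
  induction w with
  | nil => exact CD.map_one
  | cons a w ih =>
    have := ltAll_spec hw
    rw [ev_cons, ← CD.map_mul, cd_gg (this a List.mem_cons_self), ih (by
      rw [ltAll, List.all_cons, Bool.and_eq_true] at hw; exact hw.2)]
    rfl

/-- two words agree -/
noncomputable def eqB (v w : List ℕ) : Bool := ltAll 17 v && ltAll 17 w && Nat.beq (wv v) (wv w)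

theorem eq_ev {v w : List ℕ} (h : eqB v w = true) : ev gg v = ev gg w := by
  rw [eqB, Bool.and_eq_true, Bool.and_eq_true] at h
  exact CD.inj (by rw [cd_ev h.1.1, cd_ev h.1.2, CG.eq_of_beq h.2])

theorem gg_sq (a : ℕ) : gg a * gg a = 1 := by
  by_cases ha : a < 17
  · have h : allLt (fun a => eqB [a, a] []) 17 = true := by decide +kernel
    simpa [ev] using eq_ev (allLt_iff.1 h a ha)
  · rw [gg, if_neg ha, mul_one]

theorem gg_inv (a : ℕ) : (gg a)⁻¹ = gg a := inv_eq_of_mul_eq_one_right (gg_sq a)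

theorem pres_Q : Pres gg CL.Co1T.XQ.iv Rels := by
  have h : Rels.all (fun r => eqB r []) = true := by decide +kernel
  refine ⟨fun a => ?_, fun r hr => eq_ev (List.all_eq_true.1 h r hr)⟩
  rw [gg_inv]
  by_cases ha : a < 9
  · exact congrArg gg (by interval_cases a <;> rfl)
  · rw [CL.Co1T.XQ.iv, List.getD_eq_default _ _ (by simpa using ha)]

/-- letters of the table -/
noncomputable def lq (i : ℕ) : Q := RG.wd Q_good [i]

theorem u0 : U0 Q_dat Rels := fun _ _ _ hg => le_Q hg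

theorem esQ : ES (⊤ : Subgroup Q) (lq 0) :=
  es_top' u0 (by decide +kernel) (by decide +kernel) (by decide +kernel) ⟨lq 1, lq 2, by decide +kernel⟩

/-- the embedding of the table -/
noncomputable def ι : Q →* O8 := (Q_hom pres_Q).choose

theorem ι_wd {w : List ℕ} (hw : ltAll 9 w = true) : ι (RG.wd Q_good w) = ev gg w :=
  (Q_hom pres_Q).choose_spec.2 w hw

theorem lt17 {w : List ℕ} (hw : ltAll 9 w = true) : ltAll 17 w = true :=
  List.all_eq_true.2 fun a ha => by have := ltAll_spec hw a ha; simp; omega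

theorem ι_eq (u : Q) : ι u = ev gg (Q_dat.W u.val) := by
  conv_lhs => rw [← RG.wd_W u]
  exact ι_wd (RG.ltAll_W u)

theorem cd_ι (u : Q) : cd (ι u) = wv (Q_dat.W u.val) := by
  rw [ι_eq, cd_ev (lt17 (RG.ltAll_W u))]

theorem ι_z : ι (lq 0) = gg 0 := by rw [lq, ι_wd rfl, ev_singleton]

theorem ne_of_cd {a b : O8} {c d : ℕ} (ha : cd a = c) (hb : cd b = d) (h : Nat.beq c d = false) : a ≠ b :=
  fun e => ne_of_beq h (by rw [← ha, ← hb, e])

theorem ι_inj : Function.Injective ι := UQ.inj_of_es esQ ι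
  (ι_z ▸ ne_of_cd (cd_gg (by omega)) CD.map_one (by decide +kernel))

/-- the extraspecial group -/
noncomputable def Q0 : Subgroup O8 := ι.range

theorem es0 : ES Q0 (gg 0) := ι_z ▸ UQ.es_range esQ ι_inj

theorem card_Q0 : Nat.card Q0 = 512 :=
  (Nat.card_congr (MonoidHom.ofInjective ι_inj).toEquiv).symm.trans RG.card

theorem ev_Q0 {w : List ℕ} (hw : ltAll 9 w = true) : ev gg w ∈ Q0 := ⟨_, ι_wd hw⟩

theorem Q0_le {K : Subgroup O8} (h : ∀ a < 9, gg a ∈ K) : Q0 ≤ K := by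
  rintro _ ⟨u, rfl⟩
  rw [ι_eq]
  exact CE.ev_mem fun a ha => h a (ltAll_spec (RG.ltAll_W u) a ha)

theorem mem_Q0 {r : O8} (h : r ∈ Q0) : ∃ u, ι u = r := h

attribute [local irreducible] gg Q0

theorem Om_gg {a : ℕ} (ha : a ∈ [0, 9, 10, 11, 12, 13, 14]) : gg a ∈ Om := by
  have h : ∀ {v w : List ℕ}, eqB v (w ++ w) = true → ev gg v ∈ Om := fun h => by
    rw [eq_ev h, CE.ev_append]; exact Subgroup.mul_self_mem_of_index_two index_Om _
  have h1 : ∀ {a : ℕ} {w : List ℕ}, eqB [a] (w ++ w) = true → gg a ∈ Om := fun e =>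
    ev_singleton gg _ ▸ h e
  have h2 : ∀ {a b : ℕ}, gg a ∈ Om → eqB [a, b] ([b, a] ++ [b, a]) = true → gg b ∈ Om := fun e e' =>
    (mul_mem_cancel_left e).1 (by simpa [ev] using h e')
  have a1 := h1 (a := 9) (w := [3, 16]) (by decide +kernel)
  have a2 := h1 (a := 10) (w := [16, 7]) (by decide +kernel)
  have a3 := h1 (a := 11) (w := [16, 8]) (by decide +kernel)
  simp only [List.mem_cons, List.not_mem_nil, or_false] at ha
  rcases ha with rfl | rfl | rfl | rfl | rfl | rfl | rfl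
  exacts [h1 (w := [1, 2]) (by decide +kernel), a1, a2, a3, h2 a1 (by decide +kernel),
    h2 a2 (by decide +kernel), h2 a3 (by decide +kernel)]

theorem comm_z {a : ℕ} (ha : a < 16) : gg a * gg 0 = gg 0 * gg a := by
  have h : allLt (fun a => eqB [a, 0] [0, a]) 16 = true := by decide +kernel
  simpa [ev] using eq_ev (allLt_iff.1 h a ha)

/-- the conjugates of the letters -/
def NW : List (List (List ℕ)) := [[[0], [1], [2, 3], [3], [4], [5], [1, 6], [5, 7], [4, 8]],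
  [[0], [1], [2, 7], [3, 5], [1, 4], [5], [6], [7], [6, 8]],
  [[0], [1], [2, 8], [3, 4], [4], [1, 5], [6], [6, 7], [8]],
  [[0], [1, 6], [2], [2, 3], [4, 8], [5, 7], [6], [7], [8]],
  [[0], [1, 4], [2], [3], [4], [3, 5], [6, 8], [2, 7], [8]],
  [[0], [1, 5], [2], [3], [3, 4], [5], [6, 7], [7], [2, 8]], [[0], [1], [2], [3], [5], [4], [6], [8], [7]]]

theorem nrm {a : ℕ} (h1 : 9 ≤ a) (h2 : a < 16) : gg a ∈ Subgroup.normalizer (Q0 : Set O8) := by
  have h : allLt (fun i => allLt (fun b => ltAll 9 ((NW.getD i []).getD b []) &&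
    eqB [i + 9, b, i + 9] ((NW.getD i []).getD b [])) 9) 7 = true := by decide +kernel
  have k : ∀ x ∈ Q0, gg a * x * (gg a)⁻¹ ∈ Q0 := fun x hx =>
    Q0_le (K := Q0.comap (MulAut.conj (gg a)).toMonoidHom) (fun b hb => by
      have := allLt_iff.1 (allLt_iff.1 h (a - 9) (by omega)) b hb
      rw [Bool.and_eq_true, show a - 9 + 9 = a by omega] at this
      have e := ev_Q0 this.1
      rw [← eq_ev this.2] at e
      simpa [ev, gg_inv, mul_assoc] using e) hx
  refine fun x => ⟨k x, fun hx => ?_⟩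
  have := k _ hx
  rwa [gg_inv, ← mul_assoc, ← mul_assoc, gg_sq, one_mul, mul_assoc, gg_sq, mul_one] at this

/-- a complement -/
noncomputable def D0 : Subgroup O8 := gen cd [lget LL 9, lget LL 10, lget LL 11, lget LL 15]

theorem D0_le {K : Subgroup O8} (h : ∀ a ∈ [9, 10, 11, 15], gg a ∈ K) : D0 ≤ K :=
  CD.gen_le fun c hc => by
    simp only [List.mem_cons, List.not_mem_nil, or_false] at hc
    rcases hc with rfl | rfl | rfl | rfl <;> exact ⟨_, h _ (by simp), cd_gg (by omega)⟩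

/-- the elements of the complement -/
def DL : List ℕ := [0x8040201008040201, 0x8040203008040301, 0x80c020100c040201, 0x8448201008040201,
  0x840201080040201, 0x80c020300c040301, 0x8448203008040301, 0x840203080040301, 0x84cc20100c040201,
  0x848201084040201, 0xcc0201080040201, 0x84cc20300c040301, 0x848203084040301, 0xcc0203080040301,
  0xccc201084040201, 0xccc203084040301]

theorem mem_DL : ∀ g ∈ D0, cd g ∈ DL := gen_induction (CD.map_one ▸ by decide) fun j hj s e g hg => by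
  have h : ∀ j < 4, ∀ c ∈ DL, mu (lget [lget LL 9, lget LL 10, lget LL 11, lget LL 15] j) c ∈ DL := by
    decide +kernel
  rw [← CD.map_mul, e]
  exact h j hj _ hg

/-- elements of order three -/
noncomputable def yy (j : ℕ) : O8 := gg (j + 9) * gg (j + 12)

theorem D0_facts {d : O8} (hd : d ∈ D0) : d ^ 4 = 1 ∧ (d = 1 ∨ ∃ j < 3,
    (d * yy j * d⁻¹ * (yy j)⁻¹) ^ 3 = 1 ∧ d * yy j * d⁻¹ * (yy j)⁻¹ ≠ 1) := by
  have h : ∀ d ∈ DL, mu d (mu d (mu d d)) = c1 ∧ (d = c1 ∨ ∃ j < 3,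
    force (mu (mu (mu d (wv [j + 9, j + 12])) (mu d (mu d d))) (wv [j + 12, j + 9]))
      (fun c => Nat.beq (mu c (mu c c)) c1 && !Nat.beq c c1) = true) := by decide +kernel
  obtain ⟨h1, h2⟩ := h _ (mem_DL d hd)
  have e : d * (d * (d * d)) = 1 := CD.inj (by simp only [← CD.map_mul, h1, CD.map_one])
  refine ⟨by rw [← e]; simp [pow_succ, mul_assoc], h2.imp (fun e => CD.inj (e.trans CD.map_one.symm)) ?_⟩
  rintro ⟨j, hj, h3⟩
  have e2 : mu (mu (mu (cd d) (wv [j + 9, j + 12])) (mu (cd d) (mu (cd d) (cd d)))) (wv [j + 12, j + 9]) =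
      cd (d * yy j * d⁻¹ * (yy j)⁻¹) := by
    rw [← cd_ev (by simp [ltAll]; omega), ← cd_ev (by simp [ltAll]; omega), inv_eq_of_mul_eq_one_right e]
    simp [CD.map_mul, ev, yy, gg_inv]
  rw [force_eq, e2, Bool.and_eq_true, Bool.not_eq_true', CD.map_mul, CD.map_mul] at h3
  exact ⟨j, hj, CD.inj (by rw [pow_three, CG.eq_of_beq h3.1, CD.map_one]), ne_of_cd rfl CD.map_one h3.2⟩

theorem D0_nrm : D0 ≤ Subgroup.normalizer (Q0 : Set O8) :=
  D0_le fun a ha => nrm (by simp at ha; omega) (by simp at ha; omega)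

/-- a Sylow 2-subgroup -/
noncomputable def T0 : Subgroup O8 := D0 ⊔ Q0

theorem pg_T0 : IsPGroup 2 T0 :=
  IsPGroup.to_sup_of_normal_right' (fun g => ⟨2, Subtype.ext (D0_facts g.2).1⟩) es0.isPGroup D0_nrm

theorem T0_comm {t : O8} (ht : t ∈ T0) : t * gg 0 = gg 0 * t :=
  (Subgroup.mem_centralizer_singleton_iff.1 ((sup_le (D0_le fun a ha =>
    Subgroup.mem_centralizer_singleton_iff.2 (comm_z (by simp at ha; omega))) fun x hx =>
      Subgroup.mem_centralizer_singleton_iff.2 (es0.z_comm x hx) : T0 ≤ _) ht))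

theorem card_T0 : 8192 ≤ Nat.card T0 := by
  have h := ok8.isAct.chain_le CG8 (H := T0.map fm) (B := [(16, 64), (32, 16), (64, 4), (128, 2)])
    (L := [0, 1, 2, 3, 4, 5, 6, 7, 8, 9, 10, 11, 15].map (lget LL)) (fun c hc => by
      obtain ⟨a, ha, rfl⟩ := List.mem_map.1 hc
      have h17 : a < 17 := by simp at ha; omega
      refine ⟨_, ⟨gg a, ?_, rfl⟩, cd_gg h17⟩
      by_cases h9 : a < 9
      · exact Subgroup.mem_sup_right (ev_singleton gg a ▸ ev_Q0 (by simpa [ltAll] using h9))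
      · refine Subgroup.mem_sup_left (Subgroup.subset_closure ?_)
        rw [Set.mem_ofPred_eq, cd_gg h17]
        have : a = 9 ∨ a = 10 ∨ a = 11 ∨ a = 15 := by simp at ha; omega
        rcases this with rfl | rfl | rfl | rfl <;> simp) (by decide +kernel)
  rwa [Subgroup.card_map_of_injective fm_inj] at h

section

variable {R : Subgroup O8} (hR : ∀ a, 9 ≤ a → a < 15 → ∀ r ∈ R, gg a * r * gg a ∈ R)
include hR

theorem le_Q0 (hT : R ≤ T0) : R ≤ Q0 := fun r hr => by
  have h : r ∈ ((D0 ⊔ Q0 : Subgroup O8) : Set O8) := hT hr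
  rw [Subgroup.coe_mul_of_left_le_normalizer_right _ _ D0_nrm] at h
  obtain ⟨d, hd, q, hq, rfl⟩ := h
  rcases (D0_facts hd).2 with rfl | ⟨j, hj, h3, h1⟩
  · simpa using hq
  have n1 : yy j * q⁻¹ * (yy j)⁻¹ ∈ Q0 :=
    (mul_mem (nrm (by omega) (by omega)) (nrm (by omega) (by omega)) _).1 (inv_mem hq)
  have n2 : yy j * (d * q)⁻¹ * (yy j)⁻¹ ∈ R := by
    have := hR (j + 9) (by omega) (by omega) _ (hR (j + 12) (by omega) (by omega) _ (inv_mem hr))
    simpa [yy, gg_inv, mul_assoc] using this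
  have n3 : d * yy j * d⁻¹ * (yy j)⁻¹ ∈ T0 := by
    have n4 : d * (q * (yy j * q⁻¹ * (yy j)⁻¹)) * d⁻¹ ∈ T0 :=
      Subgroup.mem_sup_right ((D0_nrm hd _).1 (mul_mem hq n1))
    have := mul_mem (inv_mem n4) (hT (mul_mem hr n2))
    beta_reduce at this
    convert this using 1
    group
  obtain ⟨k, hk⟩ := pg_T0 ⟨_, n3⟩
  have := pow_gcd_eq_one.2 ⟨h3, congrArg Subtype.val hk⟩
  rw [Nat.Coprime.gcd_eq_one (Nat.Coprime.pow_right _ (by decide)), pow_one] at this
  exact absurd this h1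

/-- conjugation by a word -/
noncomputable def cjw (w : List ℕ) (c : ℕ) : ℕ :=
  List.rec (motive := fun _ => ℕ) c (fun a _ ih => mu (mu (lget LL a) ih) (lget LL a)) w

theorem mem_cjw {w : List ℕ} (hw : ∀ a ∈ w, 9 ≤ a ∧ a < 15) {c : ℕ} (hc : Mem cd R c) :
    Mem cd R (cjw w c) := by
  induction w with
  | nil => exact hc
  | cons a w ih =>
    obtain ⟨g, hg, e⟩ := ih fun b hb => hw b (List.mem_cons_of_mem _ hb)
    have := hw a List.mem_cons_self
    exact ⟨_, hR a this.1 this.2 g hg, by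
      rw [← CD.map_mul, ← CD.map_mul, cd_gg (by omega), e]; rfl⟩

/-- a commutator -/
noncomputable def st (a c : ℕ) : ℕ := force c fun c => mu c (cjw [a] c)

theorem mem_st {a : ℕ} (ha : 9 ≤ a ∧ a < 15) {c : ℕ} (hc : Mem cd R c) : Mem cd R (st a c) := by
  rw [st, force_eq]
  exact CD.mem_mul hc (mem_cjw hR (by simpa using ha) hc)

/-- Weyl words -/
def WW : List (List ℕ) := [[], [9, 12, 9], [10, 13, 10], [9, 12, 9, 10, 13, 10], [11, 14, 11],
  [9, 12, 9, 11, 14, 11], [10, 13, 10, 11, 14, 11], [9, 12, 9, 10, 13, 10, 11, 14, 11]]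

theorem Q0_le_of (hz : gg 0 ∈ R) {r : O8} (hr : r ∈ R) (hQ : r ∈ Q0) (h1 : r ≠ 1) (h2 : r ≠ gg 0) :
    Q0 ≤ R := by
  have h : ∀ u : Q, u = 1 ∨ u = lq 0 ∨ force (wv (Q_dat.W u.val)) (fun c => lany (fun w =>
    force (st 11 (st 10 (st 9 (cjw w c)))) fun d => Nat.beq d (wv [1]) || Nat.beq d (wv [1, 0])) WW) =
      true := by decide +kernel
  have hW : ∀ w ∈ WW, ∀ a ∈ w, 9 ≤ a ∧ a < 15 := by decide
  obtain ⟨u, rfl⟩ := mem_Q0 hQ
  rcases h u with rfl | rfl | h
  · exact absurd (map_one _) h1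
  · exact absurd ι_z h2
  rw [force_eq, lany_iff] at h
  obtain ⟨w, hw, h⟩ := h
  have k := mem_st hR (a := 11) (by omega) (mem_st hR (a := 10) (by omega) (mem_st hR (a := 9) (by omega)
    (mem_cjw hR (hW w hw) ⟨_, hr, cd_ι u⟩)))
  have k1 : gg 1 ∈ R := by
    rw [force_eq, Bool.or_eq_true] at h
    rcases h with h | h <;> rw [CG.eq_of_beq h, ← cd_ev rfl, CD.mem_iff] at k
    · simpa [ev] using k
    · exact (mul_mem_cancel_right hz).1 (by simpa [ev] using k)
  refine Q0_le fun a ha => ?_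
  have h' : ∀ a < 9, a = 0 ∨ ∃ w ∈ WW, cjw w (lget LL 1) = lget LL a := by decide +kernel
  rcases h' a ha with rfl | ⟨w, hw, e⟩
  · exact hz
  · have := mem_cjw hR (hW w hw) ⟨_, k1, cd_gg (by omega)⟩
    rwa [e, ← cd_gg (by omega), CD.mem_iff] at this

end

theorem dich {R : Subgroup O8} (hT : R ≤ T0) (hz : gg 0 ∈ R)
    (hR : ∀ c ∈ Om, c * gg 0 = gg 0 * c → ∀ r ∈ R, c * r * c⁻¹ ∈ R) :
    R = Q0 ∨ ∀ r ∈ R, r = 1 ∨ r = gg 0 := by
  have hR' : ∀ a, 9 ≤ a → a < 15 → ∀ r ∈ R, gg a * r * gg a ∈ R := fun a h1 h2 r hr => by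
    have := hR (gg a) (Om_gg (by simp; omega)) (comm_z (by omega)) r hr
    rwa [gg_inv] at this
  by_contra! h
  obtain ⟨r, hr, h1, h2⟩ := h.2
  exact h.1 (le_antisymm (le_Q0 hR' hT) (Q0_le_of hR' hz hr (le_Q0 hR' hT hr) h1 h2))

theorem yy_facts : yy 0 ∈ Om ∧ yy 0 * gg 0 = gg 0 * yy 0 ∧ yy 0 ^ 3 = 1 ∧ yy 0 * gg 2 ≠ gg 2 * yy 0 := by
  refine ⟨mul_mem (Om_gg (by simp)) (Om_gg (by simp)), ?_, ?_, ?_⟩
  · simpa [ev, yy, mul_assoc] using eq_ev (v := [9, 12, 0]) (w := [0, 9, 12]) (by decide +kernel)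
  · simpa [ev, yy, mul_assoc, pow_succ] using
      eq_ev (v := [9, 12, 9, 12, 9, 12]) (w := []) (by decide +kernel)
  · simpa [ev, yy, mul_assoc] using ne_of_cd (cd_ev (w := [9, 12, 2]) rfl) (cd_ev (w := [2, 9, 12]) rfl)
      (by decide +kernel)

theorem cen_Om {k : O8} (hk : k ∈ Om) (h : ∀ x ∈ Om, x * k = k * x) : k = 1 := by
  have : (⟨k, hk⟩ : Om) ∈ Subgroup.center Om :=
    Subgroup.mem_center_iff.2 fun x => Subtype.ext (h x x.2)
  rw [Subgroup.card_eq_one.1 StdO8.card_center_Om] at this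
  exact congrArg Subtype.val this

theorem not_dvd_index {X : Type*} [Group X] [Finite X] {T : Subgroup X} (h : IsPGroup 2 T) {n : ℕ}
    (h1 : 2 ^ n ≤ Nat.card T) (h2 : ¬ 2 ^ (n + 1) ∣ Nat.card X) : ¬ 2 ∣ T.index := fun e => h2 (by
  obtain ⟨m, hm⟩ := h.exists_card_eq
  rw [← T.index_mul_card, pow_succ']
  rw [hm] at h1 ⊢
  exact Nat.mul_dvd_mul e (pow_dvd_pow _ ((Nat.pow_le_pow_iff_right (by norm_num)).1 h1)))

theorem cent_Om {k : O8} (h : ∀ x ∈ Om, x * k = k * x) : k = 1 := by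
  have h1 : IsPGroup 2 (Subgroup.centralizer (Om : Set O8)) := fun g => ⟨1, Subtype.ext (by
    have := cen_Om (Subgroup.mul_self_mem_of_index_two index_Om g.1) fun x hx => by
      rw [← mul_assoc, g.2 x hx, mul_assoc, g.2 x hx, mul_assoc]
    simpa [pow_two] using this)⟩
  have h2 := h1.le_sylow_of_normal (pg_T0.toSylow (not_dvd_index pg_T0 (n := 13) card_T0 (by
    rw [← Om.index_mul_card, index_Om, StdO8.card_Om]; norm_num))) h
  rcases dich (R := T0 ⊓ Subgroup.centralizer {c | c ∈ Om ∧ c * gg 0 = gg 0 * c}) inf_le_left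
    ⟨Subgroup.mem_sup_right es0.z_mem, fun c hc => hc.2⟩ (fun c h1 h2 r hr => by
      rwa [hr.2 c ⟨h1, h2⟩, mul_inv_cancel_right]) with e | e
  · have : gg 2 ∈ Q0 := ev_singleton gg 2 ▸ ev_Q0 rfl
    rw [← e] at this
    exact absurd (this.2 _ ⟨yy_facts.1, yy_facts.2.1⟩) yy_facts.2.2.2
  · exact (e k ⟨h2, fun c hc => h c hc.1⟩).elim id fun e => cen_Om (e ▸ Om_gg (by simp)) h

end CL.D42P
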