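import Mathlib
import Cfsg.Agent.SPOR.D42.Par1
import Cfsg.Agent.S0817

/-!
A 2-group acting faithfully on `Ω₈⁺(2)` fixes a root element.
-/

set_option autoImplicit false

namespace CL.D42P

open CL.LX Cfsg
open CL.StdO8 (O8 Om index_Om card_Om card_center_Om)
open CL.Co1T.XQ (Q)

/-- `Ω₈⁺(2)` has trivial centre -/
noncomputable def omEquiv : POmega (ZMod 2) (quadFormPlus 4 (ZMod 2)) ≃* Om :=
  (QuotientGroup.quotientMulEquivOfEq (Subgroup.card_eq_one.1 card_center_Om)).trans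
    QuotientGroup.quotientBot

theorem card_aut : Nat.card (MulAut Om) = 6 * 174182400 := by
  have := Cfsg.Agent.S0817.result (F := ZMod 2) 2 1 le_rfl (ZMod.card 2) 4 le_rfl
  rw [Nat.card_congr (MulAut.congr omEquiv).toEquiv, Nat.card_congr omEquiv.toEquiv, card_Om] at this
  exact this

theorem cn_inj : Function.Injective (MulAut.conjNormal : O8 →* MulAut Om) :=
  (injective_iff_map_eq_one _).2 fun k hk => cent_Om fun x hx => by
    have := MulAut.conjNormal_apply k ⟨x, hx⟩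
    rw [hk] at this
    exact eq_mul_inv_iff_mul_eq.1 this

variable {G : Type*} [Group G]

theorem exists_twist {H S : Subgroup G} (hS : IsPGroup 2 S) (hN : S ≤ Subgroup.normalizer (H : Set G))
    (e0 : H ≃* Om) : ∃ (e : H ≃* Om) (β : S →* O8), (∀ s, β s ∈ T0) ∧
      ∀ (s : S) (h k : H), (k : G) = s * h * (s : G)⁻¹ → (e k : O8) = β s * e h * (β s)⁻¹ := by
  have : Finite (MulAut Om) := Nat.finite_of_card_ne_zero (by rw [card_aut]; norm_num)
  have h1 := pg_T0.map (MulAut.conjNormal : O8 →* MulAut Om)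
  let P := h1.toSylow (not_dvd_index h1 (n := 13)
    (by rw [Subgroup.card_map_of_injective cn_inj]; exact card_T0) (by rw [card_aut]; norm_num))
  let α : S →* MulAut Om :=
    (MulAut.congr e0).toMonoidHom.comp (H.normalizerMonoidHom.comp (Subgroup.inclusion hN))
  obtain ⟨P', hP⟩ := (hS.of_surjective _ α.rangeRestrict_surjective).exists_le_sylow
  obtain ⟨γ, hγ⟩ := MulAction.exists_smul_eq (MulAut Om) P' P
  have h2 : ∀ s, ∃ t ∈ T0, MulAut.conjNormal t = γ * α s * γ⁻¹ := fun s => by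
    have : γ * α s * γ⁻¹ ∈ P := hγ ▸ Subgroup.smul_mem_pointwise_smul _ (MulAut.conj γ) _ (hP ⟨s, rfl⟩)
    exact this
  choose b hb hb' using h2
  refine ⟨e0.trans γ, MonoidHom.mk' b fun s t => cn_inj (by simp only [map_mul, hb']; group), hb,
    fun s h k e => ?_⟩
  change _ = b s * _ * (b s)⁻¹
  rw [← MulAut.conjNormal_apply, hb', show k = H.normalizerMonoidHom ⟨s, hN s.2⟩ h from Subtype.ext e]
  simp [α]
  rfl

/-- the facts used about a Sylow subgroup acting on `Ω₈⁺(2)` -/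
structure Fr (H S : Subgroup G) (z : G) : Prop where
  zH : z ∈ H
  z1 : z ≠ 1
  zz : z * z = 1
  zS : ∀ s ∈ S, s * z = z * s
  y : ∃ y ∈ H, y * z = z * y ∧ y ^ 3 = 1 ∧ y ≠ 1
  card : ¬ 2 ^ 14 ∣ Nat.card S
  dich : ∀ R ≤ S, z ∈ R → (∀ c ∈ H, c * z = z * c → ∀ r ∈ R, c * r * c⁻¹ ∈ R) →
    Nonempty (Q ≃* R) ∨ ∀ r ∈ R, r = 1 ∨ r = z

theorem exists_fr {H S : Subgroup G} (hS : IsPGroup 2 S) (hN : S ≤ Subgroup.normalizer (H : Set G))
    (e0 : H ≃* Om) (hC : ∀ s ∈ S, (∀ h ∈ H, s * h = h * s) → s = 1) : ∃ z, Fr H S z := by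
  obtain ⟨e, β, h1, h2⟩ := exists_twist hS hN e0
  have inj : Function.Injective β := (injective_iff_map_eq_one _).2 fun s hs =>
    Subtype.ext (hC s s.2 fun h hh => by
      have := h2 s ⟨h, hh⟩ ⟨_, (hN s.2 h).1 hh⟩ rfl
      rw [hs, one_mul, inv_one, mul_one] at this
      exact mul_inv_eq_iff_eq_mul.1 (congrArg Subtype.val (e.injective (Subtype.ext this))))
  obtain ⟨z, hz⟩ := e.surjective ⟨gg 0, Om_gg (by simp)⟩
  have hz' : (e z : O8) = gg 0 := congrArg Subtype.val hz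
  have cm : ∀ {a b : H}, (a : G) * b = b * a ↔ (e a : O8) * e b = e b * e a := fun {a b} => by
    rw [← Subgroup.coe_mul, ← Subgroup.coe_mul, ← Subgroup.coe_mul, ← Subgroup.coe_mul, ← map_mul, ← map_mul,
      Subtype.val_inj, Subtype.val_inj, e.injective.eq_iff]
  have key : ∀ (s t : S) (c : H), (t : G) = c * s * (c : G)⁻¹ → β t = e c * β s * (e c : O8)⁻¹ :=
    fun s t c ht => cn_inj (MulEquiv.ext fun x => Subtype.ext (by
      obtain ⟨x, rfl⟩ := e.surjective x
      have a1 := h2 t x ⟨_, (hN t.2 x).1 x.2⟩ rfl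
      have a2 := h2 s (c⁻¹ * x * c) (c⁻¹ * ⟨_, (hN t.2 x).1 x.2⟩ * c) (by simp [ht, mul_assoc])
      simp only [map_mul, map_inv, Subgroup.coe_mul, Subgroup.coe_inv, a1] at a2
      rw [MulAut.conjNormal_apply, MulAut.conjNormal_apply, ← mul_left_cancel_iff (a := (e c : O8)⁻¹),
        ← mul_right_cancel_iff (a := (e c : O8)), a2]
      group))
  have hβ : ∀ (s : S) (c : H), (s : G) = c → β s = e c := fun s c ht =>
    cn_inj (MulEquiv.ext fun x => Subtype.ext (by
      obtain ⟨x, rfl⟩ := e.surjective x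
      simpa using (h2 s x (c * x * c⁻¹) (by simp [ht])).symm))
  refine ⟨z, z.2, fun h => es0.z_ne ?_, ?_, fun s hs => ?_, ?_, fun h => ?_, fun R hR zR hn => ?_⟩
  · rw [← hz', show z = 1 from Subtype.ext h, map_one]; rfl
  · have : z * z = 1 := e.injective (Subtype.ext (by simpa [hz'] using es0.z_sq))
    exact congrArg Subtype.val this
  · have := h2 ⟨s, hs⟩ z ⟨_, (hN hs z).1 z.2⟩ rfl
    rw [hz', T0_comm (h1 _), mul_inv_cancel_right, ← hz'] at this
    exact mul_inv_eq_iff_eq_mul.1 (congrArg Subtype.val (e.injective (Subtype.ext this)))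
  · obtain ⟨y, hy⟩ := e.surjective ⟨yy 0, yy_facts.1⟩
    have hy' : (e y : O8) = yy 0 := congrArg Subtype.val hy
    refine ⟨y, y.2, cm.2 (by rw [hy', hz', yy_facts.2.1]), ?_, fun h => yy_facts.2.2.2 ?_⟩
    · have : y ^ 3 = 1 := e.injective (Subtype.ext (by simpa [hy'] using yy_facts.2.2.1))
      exact congrArg Subtype.val this
    · rw [← hy', show y = 1 from Subtype.ext h, map_one]; simp
  · have := h.trans (Subgroup.card_dvd_of_injective β inj)
    rw [← Om.index_mul_card, index_Om, card_Om] at this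
    norm_num at this
  have zβ := (hβ ⟨z, hR zR⟩ z rfl).trans hz'
  rcases dich (R := (R.subgroupOf S).map β) (by rintro _ ⟨s, -, rfl⟩; exact h1 s) ⟨_, zR, zβ⟩ (by
    rintro c hc h _ ⟨s, hs, rfl⟩
    obtain ⟨c, hc'⟩ := e.surjective ⟨c, hc⟩
    obtain rfl : (e c : O8) = _ := congrArg Subtype.val hc'
    have := hn c c.2 (cm.2 (by rwa [hz'])) s hs
    exact ⟨⟨_, hR this⟩, this, key _ _ _ rfl⟩) with k | k
  · exact .inl ⟨((MonoidHom.ofInjective ι_inj).trans (MulEquiv.subgroupCongr k.symm)).trans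
      ((Subgroup.equivMapOfInjective _ β inj).symm.trans (Subgroup.subgroupOfEquivOfLe hR))⟩
  · refine .inr fun r hr => (k _ ⟨⟨r, hR hr⟩, hr, rfl⟩).imp (fun e => ?_) fun e => ?_
    · exact congrArg Subtype.val (inj (e.trans (map_one β).symm))
    · exact congrArg Subtype.val (inj (e.trans zβ.symm))

end CL.D42P
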