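import Mathlib
import Cfsg.Agent.SPOR.D42.Par2
import Cfsg.Agent.SIG.FStar
import Cfsg.Agent.S0296
import Cfsg.Prelude.Def_ClassificationK
import Cfsg.Prelude.Def_LocalStructure

/-!
Groups of parabolic characteristic two over `Ω₈⁺(2)`: the reduction to a large extraspecial subgroup.
-/

set_option autoImplicit false

namespace CL.D42P

open CL.LX CL.Comp Cfsg Subgroup
open CL.Co1T.XQ (Q)

variable {G : Type*} [Group G]

/-- the setting -/
structure Cx (L H S : Subgroup G) (z : G) : Prop extends Fr L S z where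
  simple : IsSimpleGroup L
  SH : S ≤ H
  le : L ≤ H
  nrm : H ≤ normalizer (L : Set G)
  cen : ∀ c ∈ H, (∀ h ∈ L, c * h = h * c) → c = 1
  fS : fstarOf (centralizer {z}) ≤ S

theorem es_of_equiv {P : Subgroup G} (e : Q ≃* P) : (∃ w, ES P w) ∧ Nat.card P = 2 ^ 9 := by
  have := UQ.es_range esQ (ψ := P.subtype.comp e.toMonoidHom) (Subtype.val_injective.comp e.injective)
  rw [MonoidHom.range_comp, MonoidHom.range_eq_top.2 e.surjective, ← MonoidHom.range_eq_map,
    range_subtype] at this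
  exact ⟨⟨_, this⟩, (Nat.card_congr e.toEquiv).symm.trans Reg.RG.card⟩

namespace Cx

variable {L H S : Subgroup G} {z : G} (h : Cx L H S z)
include h

theorem min {N : Subgroup G} (hN : N ≤ H) (hn : L ≤ normalizer (N : Set G)) (h0 : N ≠ ⊥) : L ≤ N := by
  have := h.simple
  have hn' : (N.subgroupOf L).Normal := ⟨fun x hx g => (hn g.2 x).1 hx⟩
  rcases hn'.eq_bot_or_eq_top with e | e
  · refine absurd (eq_bot_iff.2 fun c hc => h.cen c (hN hc) fun x hx => ?_) h0
    have : (⟨c * x * c⁻¹ * x⁻¹, mul_mem ((h.nrm (hN hc) x).1 hx) (inv_mem hx)⟩ : L) ∈ N.subgroupOf L := by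
      have := mul_mem hc ((hn hx _).1 (inv_mem hc))
      simpa [mem_subgroupOf, mul_assoc] using this
    rw [e] at this
    have := congrArg Subtype.val (mem_bot.1 this)
    exact commutatorElement_eq_one_iff_mul_comm.1 this
  · exact subgroupOf_eq_top.1 e

theorem nc : ¬ L ≤ centralizer (L : Set G) := fun e =>
  h.z1 (h.cen z (h.le h.zH) fun x hx => (e h.zH x hx).symm)

variable [Finite G]

theorem sub {M : Subgroup G} (hM : M.IsSubnormal) : M ≠ ⊥ → L ≤ M := by
  induction hM with
  | top => exact fun _ => le_top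
  | step M K hMK hK hn ih =>
  intro h0
  have hL : L ≤ normalizer (M : Set G) :=
    (ih fun e => h0 (eq_bot_iff.2 (e ▸ hMK))).trans ((normal_subgroupOf_iff_le_normalizer hMK).1 hn)
  have hL' : ∀ {N : Subgroup G}, L ≤ normalizer (N : Set G) → N ⊓ H ≠ ⊥ → L ≤ N := fun {N} h1 h2 =>
    (h.min inf_le_right (fun g hg x => and_congr (h1 hg x) (le_normalizer (h.le hg) x)) h2).trans inf_le_left
  by_cases hC : M.subgroupOf (centralizer {z}) = ⊥
  · have h3 : ∀ m ∈ M, m * z = z * m → m = 1 := fun m hm e => by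
      have : (⟨m, mem_centralizer_singleton_iff.2 e⟩ : centralizer ({z} : Set G)) ∈ M.subgroupOf _ := hm
      rw [hC] at this
      exact congrArg Subtype.val (mem_bot.1 this)
    have h1 : ∀ m ∈ M, z * m * z⁻¹ = m⁻¹ := fun m hm => congrArg Subtype.val (congrFun
      (MonoidHom.FixedPointFree.coe_eq_inv_of_involutive (φ := M.normalizerMonoidHom ⟨z, hL h.zH⟩)
        (fun x hx => Subtype.ext (h3 x x.2 (mul_inv_eq_iff_eq_mul.1 (congrArg Subtype.val hx)).symm))
        fun x => Subtype.ext (by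
          change z * (z * x * z⁻¹) * z⁻¹ = x
          rw [inv_eq_of_mul_eq_one_right h.zz, ← mul_assoc, ← mul_assoc, h.zz, one_mul, mul_assoc, h.zz,
            mul_one])) ⟨m, hm⟩)
    have h2 := hL' (N := centralizer (M : Set G)) (hL.trans (normalizer_le_normalizer_centralizer _))
      fun e => h.z1 (h.cen z (h.le h.zH) fun x hx => by
        have : z⁻¹ * (x * z * x⁻¹) ∈ centralizer (M : Set G) ⊓ H := ⟨fun m hm => by
          have a := h1 _ ((hL (inv_mem hx) m).1 hm)
          have b := h1 m hm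
          calc m * (z⁻¹ * (x * z * x⁻¹)) = z⁻¹ * (z * m * z⁻¹) * (x * z * x⁻¹) := by group
            _ = z⁻¹ * x * (x⁻¹ * m * x⁻¹⁻¹)⁻¹ * z * x⁻¹ := by rw [b]; group
            _ = _ := by rw [← a]; group,
          h.le (mul_mem (inv_mem h.zH) (mul_mem (mul_mem hx h.zH) (inv_mem hx)))⟩
        rw [e, mem_bot, inv_mul_eq_one, eq_mul_inv_iff_mul_eq] at this
        exact this)
    exact absurd (eq_bot_iff.2 fun m hm => h3 m hm (h2 h.zH m hm)) h0
  · refine hL' hL fun e => hC (eq_bot_of_subnormal_of_inf_fstar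
      (IsSubnormal.step M K hMK hK hn).subgroupOf (eq_bot_iff.2 fun x hx => Subtype.ext ?_))
    exact mem_bot.1 (e ▸ (⟨hx.1, h.SH (h.fS ⟨x, hx.2, rfl⟩)⟩ : (x : G) ∈ M ⊓ H))

theorem simple_fstar : IsSimpleGroup (generalizedFittingSubgroup G) ∧ L ≤ generalizedFittingSubgroup G := by
  have := h.simple
  have hq : IsQuasisimple L := isQuasisimple_of_isSimpleGroup fun e => h.nc fun x hx y hy =>
    congrArg Subtype.val (e.1.1 ⟨y, hy⟩ ⟨x, hx⟩)
  have hF : fittingSubgroup G = ⊥ := by
    by_contra e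
    have := isNilpotent_fittingSubgroup G
    exact hq.not_le_of_isSolvable inferInstance (h.sub (Normal.isSubnormal inferInstance) e)
  have : Nontrivial G := ⟨z, 1, h.z1⟩
  obtain ⟨K, hK⟩ : ∃ K : Subgroup G, IsComponent K := by
    by_contra! e
    exact fstar_ne_bot ((fstar_eq_layer_of_fitting_eq_bot hF).trans (layer_eq_bot_iff.2 e))
  have e : generalizedFittingSubgroup G = K := (fstar_eq_layer_of_fitting_eq_bot hF).trans
    (le_antisymm (layer_le_iff.2 fun K' hK' => le_of_eq (by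
      by_contra e
      exact h.nc ((h.sub hK'.1 hK'.ne_bot).trans ((hK'.le_centralizer_of_ne hK e).trans
        (centralizer_anti (h.sub hK.1 hK.ne_bot)))))) hK.le_layer)
  rw [e]
  refine ⟨hK.2.isSimpleGroup_of_center_eq_bot (eq_bot_iff.2 fun x hx => Subtype.ext ?_),
    h.sub hK.1 hK.ne_bot⟩
  exact mem_bot.1 (hF ▸ hK.center_le_fitting
    ⟨x.2, fun y hy => congrArg Subtype.val (mem_center_iff.1 hx ⟨y, hy⟩)⟩)

theorem large {K : Subgroup G} [K.Normal] (hK : L ≤ K) {w : K} (hw : (w : G) = z) :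
    IsOfSymplecticType (generalizedFittingSubgroup (centralizer ({w} : Set K))) ∧
      IsExtraspecial 2 (generalizedFittingSubgroup (centralizer ({w} : Set K))) ∧
      Nat.card (generalizedFittingSubgroup (centralizer ({w} : Set K))) = 2 ^ 9 := by
  subst hw
  set C := centralizer ({w} : Set K)
  set T := generalizedFittingSubgroup C
  let φ : C →* G := K.subtype.comp C.subtype
  have inj : Function.Injective φ := Subtype.val_injective.comp Subtype.val_injective
  have mk : ∀ c (hc : c ∈ L), c * w = w * c → (⟨c, hK hc⟩ : K) ∈ C := fun c hc e =>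
    mem_centralizer_singleton_iff.2 (Subtype.ext e)
  let u : C := ⟨w, mem_centralizer_singleton_iff.2 rfl⟩
  have uc : u ∈ center C := mem_center_iff.2 fun g => Subtype.ext (mem_centralizer_singleton_iff.1 g.2)
  have hS : T.map φ ≤ S := by
    rw [← map_map, ← fstarOf_def, map_fstarOf_of_injective _ _ Subtype.val_injective,
      show C.map K.subtype = K ⊓ centralizer {(w : G)} from le_antisymm (by
        rintro _ ⟨x, hx, rfl⟩
        exact ⟨x.2, mem_centralizer_singleton_iff.2
          (congrArg Subtype.val (mem_centralizer_singleton_iff.1 hx))⟩) fun x hx => ⟨⟨x, hx.1⟩,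
            mem_centralizer_singleton_iff.2 (Subtype.ext (mem_centralizer_singleton_iff.1 hx.2)), rfl⟩]
    exact (fstarOf_le_fstarOf_of_le_normalizer inf_le_right fun g hg x =>
      and_congr (le_normalizer_of_normal (mem_top g) x) (le_normalizer hg x)).trans h.fS
  have key : ∀ B : Subgroup C, B.Normal → B ≤ T → u ∈ B →
      ((∃ v, ES B v) ∧ Nat.card B = 2 ^ 9) ∨ ∀ b ∈ B, b = 1 ∨ b = u := fun B hB h1 h2 =>
    (h.dich (B.map φ) ((map_mono h1).trans hS) ⟨u, h2, rfl⟩ (by
      rintro c hc e _ ⟨b, hb, rfl⟩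
      exact ⟨_, hB.conj_mem b hb ⟨_, mk c hc e⟩, rfl⟩)).imp
      (fun ⟨e⟩ => es_of_equiv (e.trans (B.equivMapOfInjective φ inj).symm)) fun k b hb =>
        (k _ ⟨b, hb, rfl⟩).imp (fun e => inj (e.trans (map_one φ).symm)) fun e => inj e
  obtain ⟨⟨v, hv⟩, hc⟩ := (key T inferInstance le_rfl (center_le_fstar uc)).resolve_right fun k => by
    obtain ⟨y, y1, y2, y3, y4⟩ := h.y
    rcases k ⟨_, mk y y1 y2⟩ (centralizer_fstar_le fun t ht => by
      rcases k t ht with rfl | rfl
      · simp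
      · exact (mem_center_iff.1 uc _).symm) with e | e
    · exact y4 (congrArg φ e)
    · obtain rfl : y = w := congrArg φ e
      exact y4 (by rw [← y3, pow_three, h.zz, mul_one])
  refine ⟨⟨hv.isPGroup, fun A hA hc' => ?_⟩, hv.isExtraspecial, hc⟩
  have h1 : A.map T.subtype ≤ T ⊓ centralizer (A.map T.subtype : Set C) := by
    rintro _ ⟨a, ha, rfl⟩
    refine ⟨a.2, ?_⟩
    rintro _ ⟨b, hb, rfl⟩
    exact congrArg (fun x : A => (x : C)) (hc'.1.1 ⟨b, hb⟩ ⟨a, ha⟩)
  obtain ⟨x, hx⟩ : ∃ x, ∀ b ∈ A.map T.subtype, b = 1 ∨ b = x := by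
    rcases key (T ⊓ centralizer (A.map T.subtype : Set C)) inferInstance inf_le_left
      ⟨center_le_fstar uc, fun g _ => mem_center_iff.1 uc g⟩ with k | k
    · have e := eq_of_le_of_card_ge (inf_le_left : _ ≤ T) (hc.trans k.2.symm).le
      exact ⟨v, fun b hb => hv.cent b (h1 hb).1 fun y hy => (e.ge hy).2 b hb⟩
    · exact ⟨u, fun b hb => k b (h1 hb)⟩
  have : IsCyclic (A.map T.subtype) := isCyclic_of_le (H' := zpowers x) fun b hb => by
    rcases hx b hb with rfl | rfl
    exacts [one_mem _, mem_zpowers _]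
  exact (A.equivMapOfInjective _ Subtype.val_injective).isCyclic.2 this

end Cx

theorem exists_cx [Finite G] (hG : IsOfParabolicCharacteristic 2 G) {H : Subgroup G} (hi : ¬ 2 ∣ H.index)
    (e : fstarOf H ≃* StdO8.Om) :
    ∃ (S : Sylow 2 G) (z : G), Cx (fstarOf H) H S z := by
  obtain ⟨S, hS⟩ : ∃ S : Sylow 2 G, (S : Subgroup G) ≤ H := by
    obtain ⟨P⟩ : Nonempty (Sylow 2 H) := inferInstance
    refine ⟨(P.2.map H.subtype).toSylow fun k => ?_, map_subtype_le _⟩
    rw [← relIndex_mul_index (map_subtype_le P.1), relIndex, subgroupOf_map_subtype_self] at k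
    exact (Nat.prime_two.dvd_mul.1 k).elim P.not_dvd_index hi
  have hc : ∀ c ∈ H, (∀ h ∈ fstarOf H, c * h = h * c) → c = 1 := fun c hc k => by
    have h1 := inf_centralizer_fstarOf_le H ⟨hc, fun x hx => (k x hx).symm⟩
    have h2 := cen_Om (e ⟨c, h1⟩).2 fun x hx => by
      obtain ⟨y, hy⟩ := e.surjective ⟨x, hx⟩
      have : y * ⟨c, h1⟩ = ⟨c, h1⟩ * y := Subtype.ext (k y y.2).symm
      simpa [hy] using congrArg (fun t => (e t : StdO8.O8)) this
    exact congrArg Subtype.val (e.injective ((Subtype.ext h2).trans (map_one e).symm))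
  obtain ⟨z, hz⟩ := exists_fr S.2 (hS.trans (le_normalizer_fstarOf H)) e fun s hs => hc s (hS hs)
  have := Cfsg.Agent.S0296.result (F := ZMod 2) 4 le_rfl
  refine ⟨S, z, hz, (e.trans omEquiv.symm).isSimpleGroup, hS, fstarOf_le H, le_normalizer_fstarOf H, hc, ?_⟩
  have hn : normalizer (zpowers z : Set G) = centralizer {z} := le_antisymm (fun g hg => by
    rcases (mem_zpowers_of_sq hz.zz).1 ((hg z).1 (mem_zpowers z)) with k | k
    · exact absurd (by simpa using k) hz.z1
    · exact mem_centralizer_singleton_iff.2 (mul_inv_eq_iff_eq_mul.1 k))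
    (by rw [← centralizer_zpowers]; exact centralizer_le_normalizer _)
  have hSC : (S : Subgroup G) ≤ centralizer {z} := fun s hs => mem_centralizer_singleton_iff.2 (hz.zS s hs)
  have h1 := hG (zpowers z) (IsPGroup.of_card (n := 1) (by
    rw [Nat.card_zpowers, orderOf_eq_two_of hz.z1 hz.zz]; rfl)) (by simpa using hz.z1) ⟨S, hn ▸ hSC⟩
  rw [hn, ← fstar_eq_pCore_iff_centralizer, fstar_eq_pCore_iff_isPGroup] at h1
  exact map_le_iff_le_comap.2 (h1.le_sylow_of_normal (S.subtype hSC))

end CL.D42P
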